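/-
helper69: S2156 (automorphisms of the Chevalley groups of types G2, B2, D4, F4, E6, E7, E8 over a finite field):
shared definitions.  `xS` = root element as an element of the group, `img θ K` = image under an automorphism `θ`
of a subgroup `K` of `GL` (cut down to the group), `HasRootMap` = `θ` carries the fundamental root subgroups and
their negatives to such, along a permutation of the nodes.
-/
import Cfsg.Agent.Lib.Helper91.ChevGen
import Cfsg.Agent.S1024

set_option autoImplicit false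

namespace Cfsg.Agent.Lib.Helper69.Aut

open Cfsg Cfsg.Lie Cfsg.Agent.Lib.Helper18 Cfsg.Agent.Lib.Helper91.ChevGen

universe u

variable {F : Type u} [Field F] {D : ChevalleyDatum}

theorem xG_mem (hD : D ∈ [chevG2, chevB2, chevD4, chevF4, chevE6, chevE7, chevE8]) (r : ℕ) (t : F) :
    xG hD r t ∈ D.group F := by
  by_cases hr : r < D.nroots
  · exact xG_mem_group hD r hr t
  · have : xG hD r t = 1 := by
      apply Units.ext
      rw [coe_xG, Units.val_one]
      unfold ChevalleyDatum.x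
      rw [dif_neg hr]
    rw [this]
    exact one_mem _

/-- The root element `x_r(t)` as an element of the Chevalley group. -/
noncomputable def xS (hD : D ∈ [chevG2, chevB2, chevD4, chevF4, chevE6, chevE7, chevE8]) (r : ℕ) (t : F) :
    ↥(D.group F) := ⟨xG hD r t, xG_mem hD r t⟩

@[simp] theorem coe_xS (hD : D ∈ [chevG2, chevB2, chevD4, chevF4, chevE6, chevE7, chevE8]) (r : ℕ) (t : F) :
    ((xS hD r t : ↥(D.group F)) : GL D.Idx F) = xG hD r t := rfl

theorem xS_mul (hD : D ∈ [chevG2, chevB2, chevD4, chevF4, chevE6, chevE7, chevE8]) (r : ℕ) (t u : F) :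
    xS hD r t * xS hD r u = xS hD r (t + u) :=
  Subtype.ext (xG_mul hD r t u)

theorem xS_zero (hD : D ∈ [chevG2, chevB2, chevD4, chevF4, chevE6, chevE7, chevE8]) (r : ℕ) :
    xS (F := F) hD r 0 = 1 :=
  Subtype.ext (xG_zero hD r)

theorem xS_inv (hD : D ∈ [chevG2, chevB2, chevD4, chevF4, chevE6, chevE7, chevE8]) (r : ℕ) (t : F) :
    (xS hD r t)⁻¹ = xS hD r (-t) :=
  Subtype.ext (xG_inv hD r t)

theorem xG_injective (hD : D ∈ [chevG2, chevB2, chevD4, chevF4, chevE6, chevE7, chevE8]) (r : ℕ) (hr : r < D.nroots) :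
    Function.Injective (xG (F := F) hD r) := by
  intro a b h
  have h1 : xG hD r (a - b) = 1 := by
    rw [sub_eq_add_neg, ← xG_mul, ← xG_inv, h, mul_inv_cancel]
  have h2 : D.x F r (a - b) = 1 := by
    have := congrArg Units.val h1
    simpa using this
  exact sub_eq_zero.mp ((Cfsg.Agent.S1024.result D hD r hr _).mp h2)

theorem xS_injective (hD : D ∈ [chevG2, chevB2, chevD4, chevF4, chevE6, chevE7, chevE8]) (r : ℕ) (hr : r < D.nroots) :
    Function.Injective (xS (F := F) hD r) := by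
  intro a b h
  exact xG_injective hD r hr (congrArg Subtype.val h)

/-- An element of the group whose matrix is `x_r(t)` is `xS r t`. -/
theorem eq_xS (hD : D ∈ [chevG2, chevB2, chevD4, chevF4, chevE6, chevE7, chevE8]) (y : ↥(D.group F)) (r : ℕ)
    (t : F) (hy : ((y : GL D.Idx F) : Matrix D.Idx D.Idx F) = D.x F r t) : y = xS hD r t :=
  Subtype.ext (eq_xG hD _ r t hy)

/-- The image under `θ` of (the part inside the group of) a subgroup of `GL`, as a subgroup of `GL`. -/
def img (θ : ↥(D.group F) ≃* ↥(D.group F)) (K : Subgroup (GL D.Idx F)) : Subgroup (GL D.Idx F) :=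
  ((K.subgroupOf (D.group F)).map θ.toMonoidHom).map (D.group F).subtype

theorem mem_img (θ : ↥(D.group F) ≃* ↥(D.group F)) (K : Subgroup (GL D.Idx F)) (g : GL D.Idx F) :
    g ∈ img θ K ↔ ∃ k : ↥(D.group F), (k : GL D.Idx F) ∈ K ∧ ((θ k : ↥(D.group F)) : GL D.Idx F) = g := by
  unfold img
  constructor
  · rintro ⟨y, ⟨k, hk, rfl⟩, rfl⟩
    exact ⟨k, Subgroup.mem_subgroupOf.mp hk, rfl⟩
  · rintro ⟨k, hk, rfl⟩
    exact ⟨θ k, ⟨k, Subgroup.mem_subgroupOf.mpr hk, rfl⟩, rfl⟩

theorem img_le_group (θ : ↥(D.group F) ≃* ↥(D.group F)) (K : Subgroup (GL D.Idx F)) : img θ K ≤ D.group F := by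
  intro g hg
  obtain ⟨k, -, rfl⟩ := (mem_img θ K g).mp hg
  exact (θ k).2

theorem img_mono (θ : ↥(D.group F) ≃* ↥(D.group F)) {K L : Subgroup (GL D.Idx F)} (h : K ≤ L) :
    img θ K ≤ img θ L := by
  intro g hg
  obtain ⟨k, hk, rfl⟩ := (mem_img θ K g).mp hg
  exact (mem_img θ L _).mpr ⟨k, h hk, rfl⟩

theorem img_inf (θ : ↥(D.group F) ≃* ↥(D.group F)) (K L : Subgroup (GL D.Idx F)) :
    img θ (K ⊓ L) = img θ K ⊓ img θ L := by
  apply le_antisymm
  · exact le_inf (img_mono θ inf_le_left) (img_mono θ inf_le_right)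
  · intro g hg
    obtain ⟨hgK, hgL⟩ := Subgroup.mem_inf.mp hg
    obtain ⟨k, hk, rfl⟩ := (mem_img θ K g).mp hgK
    obtain ⟨l, hl, hkl⟩ := (mem_img θ L _).mp hgL
    have : l = k := θ.injective (Subtype.ext hkl)
    subst this
    exact (mem_img θ _ _).mpr ⟨l, Subgroup.mem_inf.mpr ⟨hk, hl⟩, rfl⟩

/-- `img` of a composite. -/
theorem img_trans (θ θ' : ↥(D.group F) ≃* ↥(D.group F)) (K : Subgroup (GL D.Idx F)) :
    img (θ.trans θ') K = img θ' (img θ K) := by
  ext g
  rw [mem_img, mem_img]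
  constructor
  · rintro ⟨k, hk, rfl⟩
    exact ⟨θ k, (mem_img θ K _).mpr ⟨k, hk, rfl⟩, rfl⟩
  · rintro ⟨y, hy, rfl⟩
    obtain ⟨k, hk, hky⟩ := (mem_img θ K _).mp hy
    have : θ k = y := Subtype.ext hky
    subst this
    exact ⟨k, hk, rfl⟩

theorem img_refl (K : Subgroup (GL D.Idx F)) (hK : K ≤ D.group F) :
    img (MulEquiv.refl ↥(D.group F)) K = K := by
  ext g
  rw [mem_img]
  constructor
  · rintro ⟨k, hk, rfl⟩
    exact hk
  · intro hg
    exact ⟨⟨g, hK hg⟩, hg, rfl⟩

/-- Two subgroups of the group with the same image are equal. -/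
theorem img_injective (θ : ↥(D.group F) ≃* ↥(D.group F)) {K L : Subgroup (GL D.Idx F)} (hK : K ≤ D.group F)
    (hL : L ≤ D.group F) (h : img θ K = img θ L) : K = L := by
  have h2 := congrArg (img θ.symm) h
  rw [← img_trans, ← img_trans, MulEquiv.self_trans_symm, img_refl K hK, img_refl L hL] at h2
  exact h2

/-- Conjugation by an element of the group, as an automorphism of the group. -/
def conjS (x : ↥(D.group F)) : ↥(D.group F) ≃* ↥(D.group F) := MulAut.conj x

theorem conjS_apply (x y : ↥(D.group F)) : conjS x y = x * y * x⁻¹ := rfl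

theorem img_conjS (x : ↥(D.group F)) (K : Subgroup (GL D.Idx F)) (hK : K ≤ D.group F) :
    img (conjS x) K = K.map (MulAut.conj (x : GL D.Idx F)).toMonoidHom := by
  ext g
  rw [mem_img, Subgroup.mem_map]
  constructor
  · rintro ⟨k, hk, rfl⟩
    exact ⟨k, hk, rfl⟩
  · rintro ⟨k, hk, rfl⟩
    exact ⟨⟨k, hK hk⟩, hk, rfl⟩

/-- `θ` is normalised: it fixes `U` and `V`. -/
def IsNormalized (θ : ↥(D.group F) ≃* ↥(D.group F)) : Prop :=
  img θ (D.posUnipotent F) = D.posUnipotent F ∧ img θ (D.negUnipotent F) = D.negUnipotent F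

/-- `θ` carries the fundamental root elements and their negatives to such, along a permutation `π` of the nodes,
with parameter maps `f i`, `g i`. -/
def HasRootMap (hD : D ∈ [chevG2, chevB2, chevD4, chevF4, chevE6, chevE7, chevE8])
    (θ : ↥(D.group F) ≃* ↥(D.group F)) : Prop :=
  ∃ (π : Equiv.Perm (Fin D.rank)) (f g : Fin D.rank → F → F),
    (∀ (i : Fin D.rank) (t : F), θ (xS hD (D.simple i) t) = xS hD (D.simple (π i)) (f i t)) ∧
    (∀ (i : Fin D.rank) (t : F), θ (xS hD (D.neg (D.simple i)) t) = xS hD (D.neg (D.simple (π i))) (g i t))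

end Cfsg.Agent.Lib.Helper69.Aut
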