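/-
helper69: S2156 module [DIAG], table part: the coefficients of the roots on the fundamental roots are additive along
the chain tables, odd under negation, and the unit vectors on the fundamental roots (kernel checks).
-/
import Cfsg.Agent.Lib.Helper18.CartanSNF
import Cfsg.Prelude.Def_ChevAutomorphisms

set_option autoImplicit false

namespace Cfsg.Agent.Lib.Helper69.Aut

open Cfsg Cfsg.Lie Cfsg.Agent.Lib.Helper18

/-- The check: `m (-r) = - m r`, `m (r + s) = m r + m s` along the chain table, `m (p_i) = e_i`. -/
def rcOK (D : ChevalleyDatum) (m : ℕ → ℕ → ℤ) : Bool :=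
  ((List.range D.nroots).all fun r =>
    ((List.range D.rank).all fun j => m (D.neg r) j == - m r j) &&
    (D.chain.getD r #[]).toList.all fun e =>
      match e.2.toList.head? with
      | none => true
      | some q => (List.range D.rank).all fun j => m q.1 j == m r j + m e.1 j) &&
  ((List.range D.rank).all fun i => (List.range D.rank).all fun j =>
    m (D.simple i) j == if j = i then 1 else 0)

theorem rcOK_neg {D : ChevalleyDatum} {m : ℕ → ℕ → ℤ} (h : rcOK D m = true) (r : ℕ) (hr : r < D.nroots) (j : ℕ)
    (hj : j < D.rank) : m (D.neg r) j = - m r j := by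
  unfold rcOK at h
  rw [Bool.and_eq_true, List.all_eq_true] at h
  have h1 := h.1 r (List.mem_range.mpr hr)
  rw [Bool.and_eq_true, List.all_eq_true] at h1
  have h2 := h1.1 j (List.mem_range.mpr hj)
  exact beq_iff_eq.mp h2

theorem rcOK_add {D : ChevalleyDatum} {m : ℕ → ℕ → ℤ} (h : rcOK D m = true) (r s k : ℕ) (hr : r < D.nroots)
    (hk : D.chainRoot r s 1 = some k) (j : ℕ) (hj : j < D.rank) : m k j = m r j + m s j := by
  unfold rcOK at h
  rw [Bool.and_eq_true, List.all_eq_true] at h
  have h1 := h.1 r (List.mem_range.mpr hr)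
  rw [Bool.and_eq_true, List.all_eq_true, List.all_eq_true] at h1
  unfold ChevalleyDatum.chainRoot ChevalleyDatum.chainEntry at hk
  rcases hf : (D.chain.getD r #[]).toList.find? (fun e => e.1 = s) with _ | e
  · rw [hf] at hk
    simp at hk
  · rw [hf] at hk
    have hmem := List.mem_of_find?_eq_some hf
    have hes : e.1 = s := by
      have := List.find?_some hf
      simpa using this
    have h2 := h1.2 e hmem
    simp only [Nat.sub_self] at hk
    rcases hq : e.2.toList.head? with _ | q
    · rw [List.head?_eq_getElem?] at hq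
      rw [hq] at hk
      simp at hk
    · rw [hq] at h2
      simp only [List.all_eq_true] at h2
      have h3 := h2 j (List.mem_range.mpr hj)
      rw [List.head?_eq_getElem?] at hq
      rw [hq] at hk
      simp only [Option.map_some, Option.some.injEq] at hk
      rw [← hk, ← hes]
      exact beq_iff_eq.mp h3

theorem rcOK_simple {D : ChevalleyDatum} {m : ℕ → ℕ → ℤ} (h : rcOK D m = true) (i j : ℕ) (hi : i < D.rank)
    (hj : j < D.rank) : m (D.simple i) j = if j = i then 1 else 0 := by
  unfold rcOK at h
  rw [Bool.and_eq_true] at h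
  have h0 := h.2
  rw [List.all_eq_true] at h0
  have h1 := h0 i (List.mem_range.mpr hi)
  rw [List.all_eq_true] at h1
  exact beq_iff_eq.mp (h1 j (List.mem_range.mpr hj))

set_option maxRecDepth 1000000 in
theorem rcOK_G2 : rcOK chevG2 rootCoeffs_G2 = true := by decide +kernel

set_option maxRecDepth 1000000 in
theorem rcOK_B2 : rcOK chevB2 rootCoeffs_B2 = true := by decide +kernel

set_option maxRecDepth 1000000 in
theorem rcOK_D4 : rcOK chevD4 rootCoeffs_D4 = true := by decide +kernel

set_option maxRecDepth 1000000 in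
theorem rcOK_F4 : rcOK chevF4 rootCoeffs_F4 = true := by decide +kernel

set_option maxRecDepth 1000000 in
theorem rcOK_E6 : rcOK chevE6 rootCoeffs_E6 = true := by decide +kernel

set_option maxRecDepth 1000000 in
theorem rcOK_E7 : rcOK chevE7 rootCoeffs_E7 = true := by decide +kernel

set_option maxRecDepth 1000000 in
theorem rcOK_E8 : rcOK chevE8 rootCoeffs_E8 = true := by decide +kernel

theorem exists_rootCoords (D : ChevalleyDatum)
    (hD : D ∈ [chevG2, chevB2, chevD4, chevF4, chevE6, chevE7, chevE8]) :
    ∃ m : ℕ → ℕ → ℤ, rcOK D m = true := by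
  simp only [List.mem_cons, List.not_mem_nil, or_false] at hD
  rcases hD with rfl | rfl | rfl | rfl | rfl | rfl | rfl
  · exact ⟨_, rcOK_G2⟩
  · exact ⟨_, rcOK_B2⟩
  · exact ⟨_, rcOK_D4⟩
  · exact ⟨_, rcOK_F4⟩
  · exact ⟨_, rcOK_E6⟩
  · exact ⟨_, rcOK_E7⟩
  · exact ⟨_, rcOK_E8⟩

end Cfsg.Agent.Lib.Helper69.Aut
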