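/-
helper69: S2156 module [DIAG]: for any prescribed values on the fundamental roots there is a diagonal automorphism
scaling the fundamental root elements by these values.
-/
import Cfsg.Agent.Lib.Helper69.Aut.Defs
import Cfsg.Agent.Lib.Helper69.Aut.DiagTab
import Cfsg.Agent.S2157

set_option autoImplicit false

namespace Cfsg.Agent.Lib.Helper69.Aut

open Cfsg Cfsg.Lie Cfsg.Agent.Lib.Helper18 Cfsg.Agent.Lib.Helper91.ChevGen

universe u

variable {F : Type u} [Field F] {D : ChevalleyDatum}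

/-- The character of the root lattice with the values `c` on the fundamental roots. -/
noncomputable def chiOf (D : ChevalleyDatum) (m : ℕ → ℕ → ℤ) (c : Fin D.rank → Fˣ) (r : ℕ) : Fˣ :=
  ∏ j : Fin D.rank, c j ^ m r j

theorem isRootCharacter_chiOf (m : ℕ → ℕ → ℤ) (hm : rcOK D m = true) (c : Fin D.rank → Fˣ) :
    D.IsRootCharacter (chiOf D m c) := by
  constructor
  · intro r hr
    unfold chiOf
    rw [← Finset.prod_inv_distrib]
    apply Finset.prod_congr rfl
    intro j _
    rw [rcOK_neg hm r hr j j.isLt, zpow_neg]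
  · intro r s k hr _ hk
    unfold chiOf
    rw [← Finset.prod_mul_distrib]
    apply Finset.prod_congr rfl
    intro j _
    rw [rcOK_add hm r s k hr hk j j.isLt, zpow_add]

theorem chiOf_simple (m : ℕ → ℕ → ℤ) (hm : rcOK D m = true) (c : Fin D.rank → Fˣ) (i : Fin D.rank) :
    chiOf D m c (D.simple i) = c i := by
  unfold chiOf
  rw [Finset.prod_eq_single i]
  · rw [rcOK_simple hm i i i.isLt i.isLt, if_pos rfl, zpow_one]
  · intro j _ hji
    rw [rcOK_simple hm i j i.isLt j.isLt, if_neg (fun h => hji (Fin.ext h)), zpow_zero]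
  · intro h
    exact absurd (Finset.mem_univ i) h

theorem charDiag_mul (χ χ' : ℕ → Fˣ) : D.charDiag F χ * D.charDiag F χ' = D.charDiag F (fun r => χ r * χ' r) := by
  unfold ChevalleyDatum.charDiag
  rw [Matrix.diagonal_mul_diagonal]
  congr 1
  ext a
  cases a with
  | inl i => simp
  | inr r => simp

theorem charDiag_one : D.charDiag F (fun _ => (1 : Fˣ)) = 1 := by
  unfold ChevalleyDatum.charDiag
  rw [← Matrix.diagonal_one]
  congr 1
  ext a
  cases a with
  | inl i => simp
  | inr r => simp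

/-- The diagonal matrix of a character as an element of `GL`. -/
noncomputable def charUnit (D : ChevalleyDatum) (χ : ℕ → Fˣ) : GL D.Idx F :=
  ⟨D.charDiag F χ, D.charDiag F (fun r => (χ r)⁻¹),
    by rw [charDiag_mul]; simp only [mul_inv_cancel]; exact charDiag_one,
    by rw [charDiag_mul]; simp only [inv_mul_cancel]; exact charDiag_one⟩

theorem conj_charUnit_xG (hD : D ∈ [chevG2, chevB2, chevD4, chevF4, chevE6, chevE7, chevE8]) (χ : ℕ → Fˣ)
    (hχ : D.IsRootCharacter χ) (r : ℕ) (hr : r < D.nroots) (t : F) :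
    charUnit D χ * xG hD r t * (charUnit D χ)⁻¹ = xG hD r ((χ r : F) * t) := by
  apply Units.ext
  rw [Units.val_mul, Units.val_mul, coe_xG, coe_xG]
  exact Cfsg.Agent.S2157.result D hD χ hχ r hr t

theorem isRootCharacter_inv (χ : ℕ → Fˣ) (hχ : D.IsRootCharacter χ) : D.IsRootCharacter (fun r => (χ r)⁻¹) := by
  constructor
  · intro r hr
    show (χ (D.neg r))⁻¹ = ((χ r)⁻¹)⁻¹
    rw [hχ.1 r hr]
  · intro r s k hr hs hk
    show (χ k)⁻¹ = (χ r)⁻¹ * (χ s)⁻¹
    rw [hχ.2 r s k hr hs hk, mul_inv]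

theorem charUnit_inv (χ : ℕ → Fˣ) : (charUnit D χ)⁻¹ = charUnit D (fun r => (χ r)⁻¹) := by
  apply Units.ext
  rfl

theorem conj_charUnit_mem (hD : D ∈ [chevG2, chevB2, chevD4, chevF4, chevE6, chevE7, chevE8]) (χ : ℕ → Fˣ)
    (hχ : D.IsRootCharacter χ) (g : GL D.Idx F) (hg : g ∈ D.group F) :
    charUnit D χ * g * (charUnit D χ)⁻¹ ∈ D.group F := by
  have hle : D.group F ≤ (D.group F).comap (MulAut.conj (charUnit D χ)).toMonoidHom := by
    unfold ChevalleyDatum.group
    rw [Subgroup.closure_le]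
    rintro x ⟨r, t, hx⟩
    have hx' : x = xG hD r.val t := by
      apply Units.ext
      rw [hx, coe_xG]
      unfold ChevalleyDatum.x
      rw [dif_pos r.isLt]
    show charUnit D χ * x * (charUnit D χ)⁻¹ ∈ Subgroup.closure _
    rw [hx', conj_charUnit_xG hD χ hχ r.val r.isLt t]
    exact xG_mem hD _ _
  exact hle hg

/-- Conjugation by the diagonal matrix of a character, as an automorphism of the group. -/
noncomputable def diagAut (hD : D ∈ [chevG2, chevB2, chevD4, chevF4, chevE6, chevE7, chevE8]) (χ : ℕ → Fˣ)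
    (hχ : D.IsRootCharacter χ) : ↥(D.group F) ≃* ↥(D.group F) where
  toFun y := ⟨charUnit D χ * y * (charUnit D χ)⁻¹, conj_charUnit_mem hD χ hχ y y.2⟩
  invFun y := ⟨(charUnit D χ)⁻¹ * y * charUnit D χ, by
    have := conj_charUnit_mem hD _ (isRootCharacter_inv χ hχ) y y.2
    rw [← charUnit_inv, inv_inv] at this
    exact this⟩
  left_inv y := by
    apply Subtype.ext
    show (charUnit D χ)⁻¹ * (charUnit D χ * y * (charUnit D χ)⁻¹) * charUnit D χ = y
    group
  right_inv y := by
    apply Subtype.ext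
    show charUnit D χ * ((charUnit D χ)⁻¹ * y * charUnit D χ) * (charUnit D χ)⁻¹ = y
    group
  map_mul' y z := by
    apply Subtype.ext
    show charUnit D χ * (y * z : GL D.Idx F) * (charUnit D χ)⁻¹ =
      charUnit D χ * y * (charUnit D χ)⁻¹ * (charUnit D χ * z * (charUnit D χ)⁻¹)
    group

/-- [DIAG] -/
theorem exists_diagonalAut (hD : D ∈ [chevG2, chevB2, chevD4, chevF4, chevE6, chevE7, chevE8])
    (c : Fin D.rank → Fˣ) :
    ∃ d : ↥(D.group F) ≃* ↥(D.group F), D.IsDiagonalAut d ∧ ∀ (i : Fin D.rank) (t : F),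
      d (xS hD (D.simple i) t) = xS hD (D.simple i) ((c i : F) * t) ∧
      d (xS hD (D.neg (D.simple i)) t) = xS hD (D.neg (D.simple i)) (((c i)⁻¹ : Fˣ) * t) := by
  obtain ⟨m, hm⟩ := exists_rootCoords D hD
  have hχ := isRootCharacter_chiOf (F := F) m hm c
  obtain ⟨C⟩ := nonempty_chevData.{u} D hD
  refine ⟨diagAut hD _ hχ, ⟨chiOf D m c, hχ, fun g => ?_⟩, fun i t => ⟨?_, ?_⟩⟩
  · show ((charUnit D (chiOf D m c) * g * (charUnit D (chiOf D m c))⁻¹ : GL D.Idx F) : Matrix D.Idx D.Idx F) = _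
    rw [Units.val_mul, Units.val_mul]
    rfl
  · apply Subtype.ext
    show charUnit D (chiOf D m c) * xG hD (D.simple i) t * (charUnit D (chiOf D m c))⁻¹ = _
    rw [conj_charUnit_xG hD _ hχ _ (C.simple_lt i i.isLt), chiOf_simple m hm c i]
    rfl
  · apply Subtype.ext
    show charUnit D (chiOf D m c) * xG hD (D.neg (D.simple i)) t * (charUnit D (chiOf D m c))⁻¹ = _
    have hlt : D.neg (D.simple i) < D.nroots := neg_lt_nroots D hD _ (C.simple_lt i i.isLt)
    rw [conj_charUnit_xG hD _ hχ _ hlt, hχ.1 _ (C.simple_lt i i.isLt), chiOf_simple m hm c i]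
    rfl

end Cfsg.Agent.Lib.Helper69.Aut
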