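/-
helper69: S2156 module [LONG]: a representative `n₀ ∈ N` of the longest element of the Weyl group interchanges `U` and
`V` and carries the negatives of the fundamental root subgroups to the fundamental root subgroups (along the opposition
involution of the diagram).  (Table check of the opposition involution on helper18's longest words + the proof
pattern of S1053.)
-/
import Cfsg.Agent.Lib.Helper69.Aut.Defs
import Cfsg.Agent.Lib.Helper18.LongestAll
import Cfsg.Agent.Lib.Helper18.Tri
import Cfsg.Agent.Lib.Helper61.ChevJ.Depth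

set_option autoImplicit false

namespace Cfsg.Agent.Lib.Helper69.Aut

open Cfsg Cfsg.Lie Cfsg.Agent.Lib.Helper18 Cfsg.Agent.Lib.Helper17 Cfsg.Agent.Lib.Helper91.ChevGen

universe u

/-- The word `ws` sends the negative of every fundamental root to a fundamental root. -/
def starOKT (T : FastDatum) (ps ws : List ℕ) : Bool :=
  forceList (ps.map T.rootTab) fun tabs =>
    ps.all fun p => forceNat (wordRootT tabs ws (T.neg p)) fun s' => decide (s' ∈ ps)

theorem starOKT_spec (D : ChevalleyDatum) (T : FastDatum) (hag : T.agree D = true) (ps ws : List ℕ)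
    (hlen : ps.length = D.rank) (hps : ∀ i < D.rank, ps.getD i 0 = D.simple i)
    (hrefl : ∀ i < D.rank, ∀ s < D.nroots,
      D.reflectRoot i s = tabRoot (T.rootTab (D.simple i)) s ∧ D.reflectRoot i s < D.nroots)
    (hws : ∀ i ∈ ws, i < D.rank) (hsl : ∀ i < D.rank, D.simple i < D.nroots)
    (hnl : ∀ r < D.nroots, D.neg r < D.nroots)
    (h : starOKT T ps ws = true) :
    ∀ i < D.rank, ∃ j < D.rank, wordRoot D ws (D.neg (D.simple i)) = D.simple j := by
  unfold starOKT at h
  rw [forceList_eq, List.all_eq_true] at h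
  intro i hi
  have hmem : ps.getD i 0 ∈ ps := by
    rw [List.getD_eq_getElem _ _ (by omega)]
    exact List.getElem_mem _
  have h1 := h _ hmem
  rw [forceNat_eq, decide_eq_true_eq, hps i hi] at h1
  have hneg : T.neg (D.simple i) = D.neg (D.simple i) := (T.neg_eq D hag _ (hsl i hi)).symm
  rw [hneg, (wordRootT_eq D T ps ws hlen hps hrefl hws _ (hnl _ (hsl i hi))).1] at h1
  obtain ⟨j, hj, hj2⟩ := List.getElem_of_mem h1
  refine ⟨j, by omega, ?_⟩
  rw [← hj2, ← hps j (by omega), List.getD_eq_getElem _ _ hj]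

set_option maxRecDepth 1000000 in
theorem starOKT_G2 : starOKT fastG2 [7, 6] longestG2 = true := by decide +kernel

set_option maxRecDepth 1000000 in
theorem starOKT_B2 : starOKT fastB2 [5, 4] longestB2 = true := by decide +kernel

set_option maxRecDepth 1000000 in
theorem starOKT_D4 : starOKT fastD4 [18, 14, 13, 12] longestD4 = true := by decide +kernel

set_option maxRecDepth 1000000 in
theorem starOKT_F4 : starOKT fastF4 [33, 27, 25, 24] longestF4 = true := by decide +kernel

set_option maxRecDepth 1000000 in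
theorem starOKT_E6 : starOKT fastE6 [56, 46, 42, 39, 37, 36] longestE6 = true := by decide +kernel

set_option maxRecDepth 1000000 in
theorem starOKT_E7 : starOKT fastE7 [93, 78, 73, 69, 66, 64, 63] longestE7 = true := by decide +kernel

set_option maxRecDepth 1000000 in
theorem starOKT_E8 : starOKT fastE8 [162, 141, 135, 130, 126, 123, 121, 120] longestE8 = true := by decide +kernel

/-- A longest word together with the opposition property. -/
theorem exists_longestWord_star (D : ChevalleyDatum)
    (hD : D ∈ [chevG2, chevB2, chevD4, chevF4, chevE6, chevE7, chevE8]) :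
    ∃ ws : List ℕ, IsLongestWord D ws ∧
      ∀ i < D.rank, ∃ j < D.rank, wordRoot D ws (D.neg (D.simple i)) = D.simple j := by
  have hsl : ∀ i < D.rank, D.simple i < D.nroots := by
    obtain ⟨C⟩ := nonempty_chevData.{0} D hD
    exact fun i hi => C.simple_lt i hi
  have hnl : ∀ r < D.nroots, D.neg r < D.nroots := fun r hr => neg_lt_nroots D hD r hr
  have key : ∀ (T : FastDatum) (hag : T.agree D = true) (ps ws : List ℕ) (hlen : ps.length = D.rank)
      (hps : ∀ i < D.rank, ps.getD i 0 = D.simple i)
      (hrefl : ∀ i < D.rank, ∀ s < D.nroots,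
        D.reflectRoot i s = tabRoot (T.rootTab (D.simple i)) s ∧ D.reflectRoot i s < D.nroots)
      (hw : w0OKT T ps ws = true) (hstar : starOKT T ps ws = true),
      ∃ ws : List ℕ, IsLongestWord D ws ∧
        ∀ i < D.rank, ∃ j < D.rank, wordRoot D ws (D.neg (D.simple i)) = D.simple j := by
    intro T hag ps ws hlen hps hrefl hw hstar
    have h1 := w0OKT_spec D T hag ps ws hlen hps hrefl hw
    exact ⟨ws, h1, starOKT_spec D T hag ps ws hlen hps hrefl h1.1 hsl hnl hstar⟩
  simp only [List.mem_cons, List.not_mem_nil, or_false] at hD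
  rcases hD with rfl | rfl | rfl | rfl | rfl | rfl | rfl
  · refine key fastG2 agree_G2 _ longestG2 rfl ?_
      (hrefl_of_nxRel _ _ fun i hi s hs => nxRel_G2 i hi s hs) w0OKT_G2 starOKT_G2
    intro i hi
    change i < 2 at hi
    interval_cases i
    · exact simple_G2_0.symm
    · exact simple_G2_1.symm
  · refine key fastB2 agree_B2 _ longestB2 rfl ?_
      (hrefl_of_nxRel _ _ fun i hi s hs => nxRel_B2 i hi s hs) w0OKT_B2 starOKT_B2
    intro i hi
    change i < 2 at hi
    interval_cases i
    · exact simple_B2_0.symm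
    · exact simple_B2_1.symm
  · refine key fastD4 agree_D4 _ longestD4 rfl ?_
      (hrefl_of_nxRel _ _ fun i hi s hs => nxRel_D4 i hi s hs) w0OKT_D4 starOKT_D4
    intro i hi
    change i < 4 at hi
    interval_cases i
    · exact simple_D4_0.symm
    · exact simple_D4_1.symm
    · exact simple_D4_2.symm
    · exact simple_D4_3.symm
  · refine key fastF4 agree_F4 _ longestF4 rfl ?_
      (hrefl_of_nxRel _ _ fun i hi s hs => nxRel_F4 i hi s hs) w0OKT_F4 starOKT_F4
    intro i hi
    change i < 4 at hi
    interval_cases i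
    · exact simple_F4_0.symm
    · exact simple_F4_1.symm
    · exact simple_F4_2.symm
    · exact simple_F4_3.symm
  · refine key fastE6 agree_E6 _ longestE6 rfl ?_
      (hrefl_of_nxRel _ _ fun i hi s hs => nxRel_E6 i hi s hs) w0OKT_E6 starOKT_E6
    intro i hi
    change i < 6 at hi
    interval_cases i
    · exact simple_E6_0.symm
    · exact simple_E6_1.symm
    · exact simple_E6_2.symm
    · exact simple_E6_3.symm
    · exact simple_E6_4.symm
    · exact simple_E6_5.symm
  · refine key fastE7 agree_E7 _ longestE7 rfl ?_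
      (hrefl_of_nxRel _ _ fun i hi s hs => nxRel_E7 i hi s hs) w0OKT_E7 starOKT_E7
    intro i hi
    change i < 7 at hi
    interval_cases i
    · exact simple_E7_0.symm
    · exact simple_E7_1.symm
    · exact simple_E7_2.symm
    · exact simple_E7_3.symm
    · exact simple_E7_4.symm
    · exact simple_E7_5.symm
    · exact simple_E7_6.symm
  · refine key fastE8 agree_E8 _ longestE8 rfl ?_
      (hrefl_of_nxRel _ _ fun i hi s hs => nxRel_E8 i hi s hs) w0OKT_E8 starOKT_E8
    intro i hi
    change i < 8 at hi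
    interval_cases i
    · exact simple_E8_0.symm
    · exact simple_E8_1.symm
    · exact simple_E8_2.symm
    · exact simple_E8_3.symm
    · exact simple_E8_4.symm
    · exact simple_E8_5.symm
    · exact simple_E8_6.symm
    · exact simple_E8_7.symm

variable {F : Type u} [Field F] {D : ChevalleyDatum}

/-- The subgroup generated by the root elements of the roots with property `P`. -/
def genSub (D : ChevalleyDatum) (F : Type u) [Field F] (P : ℕ → Prop) : Subgroup (GL D.Idx F) :=
  Subgroup.closure {g | ∃ (r : ℕ) (t : F), P r ∧ (g : Matrix D.Idx D.Idx F) = D.x F r t}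

theorem rootSubgroup_eq_genSub (s : ℕ) : D.rootSubgroup F s = genSub D F (fun r => r = s) := by
  unfold ChevalleyDatum.rootSubgroup genSub
  congr 1
  ext g
  constructor
  · rintro ⟨t, ht⟩
    exact ⟨s, t, rfl, ht⟩
  · rintro ⟨r, t, rfl, ht⟩
    exact ⟨t, ht⟩

/-- Conjugation by an element acting on the root elements through an involution `w` of the roots. -/
theorem map_conj_genSub (hD : D ∈ [chevG2, chevB2, chevD4, chevF4, chevE6, chevE7, chevE8]) (n : GL D.Idx F)
    (w : ℕ → ℕ) (hw : ∀ s < D.nroots, w (w s) = s ∧ w s < D.nroots)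
    (hconj : ∀ s < D.nroots, ∃ η : F, η * η = 1 ∧ ∀ t : F, n * xG hD s t * n⁻¹ = xG hD (w s) (η * t))
    (P P' : ℕ → Prop) (h1 : ∀ r, P r → r < D.nroots ∧ P' (w r)) (h2 : ∀ r, P' r → r < D.nroots ∧ P (w r)) :
    (genSub D F P).map (MulAut.conj n).toMonoidHom = genSub D F P' := by
  unfold genSub
  rw [MonoidHom.map_closure]
  apply le_antisymm
  · rw [Subgroup.closure_le]
    rintro _ ⟨g, ⟨r, t, hr, hg⟩, rfl⟩
    apply Subgroup.subset_closure
    obtain ⟨η, -, h⟩ := hconj r (h1 r hr).1
    refine ⟨w r, η * t, (h1 r hr).2, ?_⟩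
    have hg' : g = xG hD r t := Units.ext hg
    show ((n * g * n⁻¹ : GL D.Idx F) : Matrix D.Idx D.Idx F) = _
    rw [hg', h t, coe_xG]
  · rw [Subgroup.closure_le]
    rintro g ⟨s, t, hs, hg⟩
    have hg' : g = xG hD s t := Units.ext hg
    obtain ⟨hs1, hs2⟩ := h2 s hs
    obtain ⟨hww, hwlt⟩ := hw s hs1
    obtain ⟨η, hη, h⟩ := hconj (w s) hwlt
    rw [hww] at h
    have e := h (η * t)
    rw [← mul_assoc, hη, one_mul] at e
    apply Subgroup.subset_closure
    refine ⟨xG hD (w s) (η * t), ⟨w s, η * t, hs2, rfl⟩, ?_⟩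
    show n * xG hD (w s) (η * t) * n⁻¹ = g
    rw [e, hg']

/-- [LONG] -/
theorem exists_longest_conj (hD : D ∈ [chevG2, chevB2, chevD4, chevF4, chevE6, chevE7, chevE8]) :
    ∃ n ∈ D.monomialSubgroup F,
      (D.posUnipotent F).map (MulAut.conj n).toMonoidHom = D.negUnipotent F ∧
      (D.negUnipotent F).map (MulAut.conj n).toMonoidHom = D.posUnipotent F ∧
      ∃ star : Equiv.Perm (Fin D.rank), ∀ i : Fin D.rank,
        (D.rootSubgroup F (D.neg (D.simple i))).map (MulAut.conj n).toMonoidHom =
          D.rootSubgroup F (D.simple (star i)) := by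
  classical
  obtain ⟨ws, ⟨hws, hw⟩, hstar⟩ := exists_longestWord_star D hD
  have hsign := signOK_of_mem D hD
  obtain ⟨n, hnN, hn⟩ := exists_unit_nWordMat (F := F) D hD ws hws
  have hsl : ∀ i < D.rank, D.simple i < D.nroots := by
    obtain ⟨C⟩ := nonempty_chevData.{0} D hD
    exact fun i hi => C.simple_lt i hi
  have hnl : ∀ r < D.nroots, D.neg r < D.nroots := fun r hr => neg_lt_nroots D hD r hr
  have hw' : ∀ s < D.nroots, wordRoot D ws (wordRoot D ws s) = s ∧ wordRoot D ws s < D.nroots :=
    fun s hs => ⟨(hw s hs).1, (hw s hs).2.1⟩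
  have hconj : ∀ s < D.nroots, ∃ η : F, η * η = 1 ∧ ∀ t : F,
      n * xG hD s t * n⁻¹ = xG hD (wordRoot D ws s) (η * t) := by
    intro s hs
    obtain ⟨η, hη, h⟩ := nWordMat_mul_x (F := F) D hD ws hws s hs
    refine ⟨(η : F), ?_, fun t => ?_⟩
    · rcases hη with h0 | h0 <;> rw [h0] <;> push_cast <;> ring
    · apply Units.ext
      rw [Units.val_mul, Units.val_mul, coe_xG, hn, h t, mul_assoc, ← hn, ← Units.val_mul, mul_inv_cancel,
        Units.val_one, mul_one, coe_xG]
  have hposlt : ∀ r, D.IsPosRoot r → D.nroots / 2 ≤ r := fun r hr => (posOK_spec (posOK_of_mem D hD) r hr).1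
  have hneglt : ∀ r, D.IsNegRoot r → r < D.nroots / 2 := fun r hr => (negOK_spec (negOK_of_mem D hD) r hr).1
  refine ⟨n, hnN, ?_, ?_, ?_⟩
  · exact map_conj_genSub hD n _ hw' hconj D.IsPosRoot D.IsNegRoot
      (fun r hr => ⟨hr.1, isNegRoot_of_lt D hsign _ (hw r hr.1).2.1 ((hw r hr.1).2.2.mp (hposlt r hr))⟩)
      (fun r hr => ⟨hr.1, isPosRoot_of_ge D hsign _ (hw r hr.1).2.1 (by
        by_contra hlt
        have := (hw r hr.1).2.2.mpr (by omega)
        have := hneglt r hr
        omega)⟩)
  · exact map_conj_genSub hD n _ hw' hconj D.IsNegRoot D.IsPosRoot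
      (fun r hr => ⟨hr.1, isPosRoot_of_ge D hsign _ (hw r hr.1).2.1 (by
        by_contra hlt
        have := (hw r hr.1).2.2.mpr (by omega)
        have := hneglt r hr
        omega)⟩)
      (fun r hr => ⟨hr.1, isNegRoot_of_lt D hsign _ (hw r hr.1).2.1 ((hw r hr.1).2.2.mp (hposlt r hr))⟩)
  · -- the opposition involution
    choose! jf hjf1 hjf2 using hstar
    have hsinj : ∀ i k, i < D.rank → k < D.rank → D.simple i = D.simple k → i = k := by
      intro i k hi hk h
      obtain ⟨X⟩ := Cfsg.Agent.Lib.Helper61.ChevJ.nonempty_jData.{0} D hD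
      have h1 := X.coroot_simple i hi i hi
      have h2 := X.coroot_simple k hk i hi
      rw [h, h2] at h1
      by_contra hne
      rw [if_pos rfl, if_neg hne] at h1
      exact absurd h1 (by norm_num)
    let sf : Fin D.rank → Fin D.rank := fun i => ⟨jf i.val, hjf1 i.val i.isLt⟩
    have hinj : Function.Injective sf := by
      intro i k hik
      have h1 : jf i.val = jf k.val := congrArg Fin.val hik
      have e1 := hjf2 i.val i.isLt
      have e2 := hjf2 k.val k.isLt
      rw [h1, ← e2] at e1
      -- `w` is injective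
      have e3 := congrArg (wordRoot D ws) e1
      rw [(hw _ (hnl _ (hsl _ i.isLt))).1, (hw _ (hnl _ (hsl _ k.isLt))).1] at e3
      -- `neg` is injective
      obtain ⟨C⟩ := nonempty_chevData.{0} D hD
      have hn1 := C.nroots_eq
      rw [C.neg_eq _ (hsl _ i.isLt), C.neg_eq _ (hsl _ k.isLt)] at e3
      unfold FastDatum.neg at e3
      have l1 := hsl _ i.isLt
      have l2 := hsl _ k.isLt
      have : D.simple i.val = D.simple k.val := by omega
      exact Fin.ext (hsinj _ _ i.isLt k.isLt this)
    refine ⟨Equiv.ofBijective sf (Finite.injective_iff_bijective.mp hinj), fun i => ?_⟩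
    rw [rootSubgroup_eq_genSub, rootSubgroup_eq_genSub]
    apply map_conj_genSub hD n _ hw' hconj
    · rintro r rfl
      refine ⟨hnl _ (hsl _ i.isLt), ?_⟩
      show wordRoot D ws (D.neg (D.simple i.val)) = D.simple (sf i).val
      exact hjf2 i.val i.isLt
    · rintro r hr
      have hr' : r = D.simple (jf i.val) := hr
      refine ⟨by rw [hr']; exact hsl _ (hjf1 _ i.isLt), ?_⟩
      rw [hr', ← hjf2 i.val i.isLt]
      exact (hw _ (hnl _ (hsl _ i.isLt))).1

end Cfsg.Agent.Lib.Helper69.Aut
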