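/-
helper69: S2156 module [OPP]: an automorphism fixing `U` sends `V` to a `B`-conjugate of `V` (Bruhat decomposition:
a conjugate `n U n⁻¹`, `n ∈ N`, meeting `U` trivially is `V`).
-/
import Cfsg.Agent.Lib.Helper69.Aut.Defs
import Cfsg.Agent.S1100
import Cfsg.Agent.S1053
import Cfsg.Agent.S1037
import Cfsg.Agent.S1036
import Cfsg.Agent.S1043
import Cfsg.Agent.S1041
import Cfsg.Agent.Lib.Helper18.Order1
import Cfsg.Agent.Lib.Helper18.Tri

set_option autoImplicit false

namespace Cfsg.Agent.Lib.Helper69.Aut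

open Cfsg Cfsg.Lie Cfsg.Agent.Lib.Helper18 Cfsg.Agent.Lib.Helper91.ChevGen

universe u

variable {F : Type u} [Field F] {D : ChevalleyDatum}

/-- `θ` is compatible with conjugation by elements of the group. -/
theorem img_map_conj (θ : ↥(D.group F) ≃* ↥(D.group F)) (K : Subgroup (GL D.Idx F)) (hK : K ≤ D.group F)
    (k : ↥(D.group F)) :
    img θ (K.map (MulAut.conj (k : GL D.Idx F)).toMonoidHom) =
      (img θ K).map (MulAut.conj ((θ k : ↥(D.group F)) : GL D.Idx F)).toMonoidHom := by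
  ext g
  rw [mem_img, Subgroup.mem_map]
  constructor
  · rintro ⟨y, hy, rfl⟩
    obtain ⟨z, hz, hzy⟩ := Subgroup.mem_map.mp hy
    refine ⟨((θ ⟨z, hK hz⟩ : ↥(D.group F)) : GL D.Idx F), (mem_img θ K _).mpr ⟨⟨z, hK hz⟩, hz, rfl⟩, ?_⟩
    have e : y = k * ⟨z, hK hz⟩ * k⁻¹ := Subtype.ext hzy.symm
    rw [e, map_mul, map_mul, map_inv]
    rfl
  · rintro ⟨x, hx, rfl⟩
    obtain ⟨z, hz, rfl⟩ := (mem_img θ K x).mp hx
    refine ⟨k * z * k⁻¹, Subgroup.mem_map.mpr ⟨z, hz, rfl⟩, ?_⟩
    rw [map_mul, map_mul, map_inv]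
    rfl

theorem map_conj_mul' {G : Type*} [Group G] (K : Subgroup G) (a b : G) :
    K.map (MulAut.conj (a * b)).toMonoidHom = (K.map (MulAut.conj b).toMonoidHom).map (MulAut.conj a).toMonoidHom := by
  rw [Subgroup.map_map]
  congr 1
  ext x
  simp [MulAut.conj_apply, mul_assoc]

theorem map_conj_of_mem' {G : Type*} [Group G] (K : Subgroup G) (a : G) (ha : a ∈ K) :
    K.map (MulAut.conj a).toMonoidHom = K := by
  ext g
  rw [Subgroup.mem_map]
  constructor
  · rintro ⟨k, hk, rfl⟩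
    exact mul_mem (mul_mem ha hk) (inv_mem ha)
  · intro hg
    exact ⟨a⁻¹ * g * a, mul_mem (mul_mem (inv_mem ha) hg) ha, by simp [MulAut.conj_apply, mul_assoc]⟩

theorem xG_mem_negUnipotent (hD : D ∈ [chevG2, chevB2, chevD4, chevF4, chevE6, chevE7, chevE8]) (s : ℕ)
    (t : F) (hs : D.IsNegRoot s) : xG hD s t ∈ D.negUnipotent F :=
  Subgroup.subset_closure ⟨s, t, hs, rfl⟩

/-- A conjugate of `U` by an element of `N` that meets `U` trivially is `V`. -/
theorem conj_monomial_eq_negUnipotent (hD : D ∈ [chevG2, chevB2, chevD4, chevF4, chevE6, chevE7, chevE8])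
    (n : GL D.Idx F) (hn : n ∈ D.monomialSubgroup F)
    (h : D.posUnipotent F ⊓ (D.posUnipotent F).map (MulAut.conj n).toMonoidHom = ⊥) :
    (D.posUnipotent F).map (MulAut.conj n).toMonoidHom = D.negUnipotent F := by
  obtain ⟨C⟩ := nonempty_chevData.{u} D hD
  have hsign := signOK_of_mem D hD
  have hnr := C.nroots_eq
  have heven : D.nroots % 2 = 0 := hnr ▸ C.heven
  obtain ⟨ws, h₀, hws, hh₀, hnw⟩ := isWordH_of_mem_monomial hD C n hn
  -- positive roots go to negative roots
  have key : ∀ r, D.IsPosRoot r → wordRootF C.tabs ws r < D.nroots / 2 := by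
    intro r hr
    obtain ⟨hr1, hr2⟩ := (isPosRoot_iff hD r).mp hr
    by_contra hge
    push Not at hge
    obtain ⟨t', ht', e⟩ := word_conj_xG hD C ws hws h₀ hh₀ r hr1 (1 : F)
    have hlt := wordRootF_lt C ws hws r hr1
    have hpos : D.IsPosRoot (wordRootF C.tabs ws r) := (isPosRoot_iff hD _).mpr ⟨hlt, hge⟩
    have hmem : xG hD (wordRootF C.tabs ws r) t' ∈
        D.posUnipotent F ⊓ (D.posUnipotent F).map (MulAut.conj n).toMonoidHom := by
      refine Subgroup.mem_inf.mpr ⟨xG_mem_posUnipotent hD _ t' hpos, ?_⟩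
      rw [← e, ← hnw]
      exact Subgroup.mem_map.mpr ⟨xG hD r 1, xG_mem_posUnipotent hD r 1 hr, rfl⟩
    rw [h, Subgroup.mem_bot] at hmem
    exact ht' one_ne_zero (xG_injective hD _ hlt (hmem.trans (xG_zero hD _).symm))
  apply le_antisymm
  · rw [Subgroup.map_le_iff_le_comap]
    unfold ChevalleyDatum.posUnipotent
    rw [Subgroup.closure_le]
    rintro g ⟨r, t, hr, hg⟩
    have hg' : g = xG hD r t := Units.ext hg
    obtain ⟨t', -, e⟩ := word_conj_xG hD C ws hws h₀ hh₀ r hr.1 t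
    show n * g * n⁻¹ ∈ D.negUnipotent F
    rw [hg', hnw, e]
    exact xG_mem_negUnipotent hD _ _ (isNegRoot_of_lt D hsign _ (wordRootF_lt C ws hws r hr.1) (key r hr))
  · unfold ChevalleyDatum.negUnipotent
    rw [Subgroup.closure_le]
    rintro g ⟨s, t, hs, hg⟩
    have hg' : g = xG hD s t := Units.ext hg
    have hs2 : s < D.nroots / 2 := (negOK_spec (negOK_of_mem D hD) s hs).1
    obtain ⟨ws', h', hws', hh', hinv⟩ := isWordH_inv hD C n ⟨ws, h₀, hws, hh₀, hnw⟩
    set r'' := wordRootF C.tabs ws' s with hr''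
    have hr''lt : r'' < D.nroots := wordRootF_lt C ws' hws' s hs.1
    -- `w r'' = s`
    have hwr : wordRootF C.tabs ws r'' = s := by
      obtain ⟨t₁, ht₁, e₁⟩ := word_conj_xG hD C ws' hws' h' hh' s hs.1 (1 : F)
      obtain ⟨t₂, -, e₂⟩ := word_conj_xG hD C ws hws h₀ hh₀ r'' hr''lt t₁
      rw [← hinv, ← hr''] at e₁
      rw [← hnw, ← e₁] at e₂
      have e₃ : xG hD s (1 : F) = xG hD (wordRootF C.tabs ws r'') t₂ := by
        rw [← e₂]
        group
      exact xG_inj_root hD s _ hs.1 (wordRootF_lt C ws hws r'' hr''lt) 1 t₂ one_ne_zero e₃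
    -- `r''` is positive
    have hpos : D.IsPosRoot r'' := by
      rw [isPosRoot_iff hD]
      refine ⟨hr''lt, ?_⟩
      by_contra hlt
      push Not at hlt
      have hnegpos : D.IsPosRoot (C.T.neg r'') := by
        rw [isPosRoot_iff hD]
        unfold FastDatum.neg
        rw [hnr]
        constructor <;> omega
      have h1 := key _ hnegpos
      rw [wordRootF_neg C ws hws r'' hr''lt, hwr] at h1
      unfold FastDatum.neg at h1
      rw [hnr] at h1
      omega
    obtain ⟨t', -, e⟩ := word_conj_xG hD C ws' hws' h' hh' s hs.1 t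
    rw [← hinv, ← hr''] at e
    refine Subgroup.mem_map.mpr ⟨xG hD r'' t', xG_mem_posUnipotent hD _ _ hpos, ?_⟩
    show n * xG hD r'' t' * n⁻¹ = g
    rw [← e, hg']
    group

/-- [OPP] -/
theorem exists_conj_negUnipotent (hD : D ∈ [chevG2, chevB2, chevD4, chevF4, chevE6, chevE7, chevE8])
    (θ : ↥(D.group F) ≃* ↥(D.group F)) (hU : img θ (D.posUnipotent F) = D.posUnipotent F) :
    ∃ b ∈ D.borelSubgroup F, img θ (D.negUnipotent F) =
      (D.negUnipotent F).map (MulAut.conj b).toMonoidHom := by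
  obtain ⟨n₀, hn₀N, hn₀⟩ := Cfsg.Agent.S1053.result (F := F) D hD
  obtain ⟨hBG, hNG, -⟩ := Cfsg.Agent.S1043.result (F := F) D hD
  have hUG : D.posUnipotent F ≤ D.group F := by
    rw [← Cfsg.Agent.S1041.result D hD]
    exact le_sup_left
  set n₀' : ↥(D.group F) := ⟨n₀, hNG hn₀N⟩ with hn₀'
  set g : GL D.Idx F := ((θ n₀' : ↥(D.group F)) : GL D.Idx F) with hg
  have e1 : img θ (D.negUnipotent F) = (D.posUnipotent F).map (MulAut.conj g).toMonoidHom := by
    rw [← hn₀]
    have := img_map_conj θ (D.posUnipotent F) hUG n₀'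
    rw [hU] at this
    exact this
  obtain ⟨b, hb, n, hn, u, hu, hgbnu⟩ := (Cfsg.Agent.S1100.result D hD).1 g (θ n₀').2
  have huU : u ∈ D.posUnipotent F := by
    refine (Subgroup.closure_mono ?_) hu
    rintro x ⟨r, t, hr, -, hx⟩
    exact ⟨r, t, hr, hx⟩
  have e2 : (D.posUnipotent F).map (MulAut.conj g).toMonoidHom =
      ((D.posUnipotent F).map (MulAut.conj n).toMonoidHom).map (MulAut.conj b).toMonoidHom := by
    rw [hgbnu, map_conj_mul', map_conj_of_mem' _ u huU, map_conj_mul']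
  -- `b` normalises `U`
  have hbU : (D.posUnipotent F).map (MulAut.conj b).toMonoidHom = D.posUnipotent F := by
    have hN : D.borelSubgroup F ≤ Subgroup.normalizer (D.posUnipotent F : Set (GL D.Idx F)) := by
      unfold ChevalleyDatum.borelSubgroup
      exact sup_le Subgroup.le_normalizer (Cfsg.Agent.S1036.result D hD).1
    have hbN := hN hb
    ext x
    rw [Subgroup.mem_map]
    constructor
    · rintro ⟨k, hk, rfl⟩
      exact ((Subgroup.mem_normalizer_iff.mp hbN) k).mp hk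
    · intro hx
      refine ⟨b⁻¹ * x * b, ?_, by simp [MulAut.conj_apply, mul_assoc]⟩
      have := (Subgroup.mem_normalizer_iff.mp (inv_mem hbN) x).mp hx
      simpa using this
  have hdisj : D.posUnipotent F ⊓ (D.posUnipotent F).map (MulAut.conj n).toMonoidHom = ⊥ := by
    have hUV : D.posUnipotent F ⊓ D.negUnipotent F = ⊥ := by
      have h1 := (Cfsg.Agent.S1037.result (F := F) D hD).1
      apply le_antisymm _ bot_le
      rw [← h1]
      exact inf_le_inf_right _ (by unfold ChevalleyDatum.borelSubgroup; exact le_sup_left)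
    have h2 : img θ (D.posUnipotent F) ⊓ img θ (D.negUnipotent F) = ⊥ := by
      rw [← img_inf, hUV]
      ext x
      rw [mem_img, Subgroup.mem_bot]
      constructor
      · rintro ⟨k, hk, rfl⟩
        have : k = 1 := Subtype.ext (Subgroup.mem_bot.mp hk)
        rw [this, map_one]
        rfl
      · rintro rfl
        exact ⟨1, one_mem _, by rw [map_one]; rfl⟩
    rw [hU, e1, e2] at h2
    apply le_antisymm _ bot_le
    intro y hy
    obtain ⟨hy1, hy2⟩ := Subgroup.mem_inf.mp hy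
    have hy3 : b * y * b⁻¹ ∈ D.posUnipotent F ⊓
        ((D.posUnipotent F).map (MulAut.conj n).toMonoidHom).map (MulAut.conj b).toMonoidHom := by
      refine Subgroup.mem_inf.mpr ⟨?_, Subgroup.mem_map.mpr ⟨y, hy2, rfl⟩⟩
      rw [← hbU]
      exact Subgroup.mem_map.mpr ⟨y, hy1, rfl⟩
    rw [h2, Subgroup.mem_bot] at hy3
    rw [Subgroup.mem_bot]
    have : y = b⁻¹ * (b * y * b⁻¹) * b := by group
    rw [this, hy3]
    group
  have e3 := conj_monomial_eq_negUnipotent hD n hn hdisj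
  exact ⟨b, hb, by rw [e1, e2, e3]⟩

end Cfsg.Agent.Lib.Helper69.Aut
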