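/-
helper69: S2156 module [PAR], abstract part: an automorphism of a group with a (B,N)-pair that fixes `B` permutes the
minimal parabolic subgroups `P_{s}` (the atoms of the lattice of the subgroups containing `B`, S0316).
-/
import Cfsg.Agent.S0316

set_option autoImplicit false

namespace Cfsg.Agent.Lib.Helper69.Aut

open Cfsg

theorem bn_map_parabolic {G : Type*} [Group G] (P : Cfsg.BNPair G) (θ : G ≃* G)
    (hB : P.B.map θ.toMonoidHom = P.B) (s : G) (hs : s ∈ P.S) :
    ∃ s' ∈ P.S, (P.parabolic {s}).map θ.toMonoidHom = P.parabolic {s'} := by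
  obtain ⟨e, he⟩ := Cfsg.Agent.S0316.result P
  have hB' : P.B.map θ.symm.toMonoidHom = P.B := by
    conv_lhs => rw [← hB]
    rw [Subgroup.map_map]
    have : θ.symm.toMonoidHom.comp θ.toMonoidHom = MonoidHom.id G := by
      ext x
      simp
    rw [this, Subgroup.map_id]
  let Θ : {M : Subgroup G // P.B ≤ M} ≃o {M : Subgroup G // P.B ≤ M} :=
    { toFun := fun M => ⟨M.1.map θ.toMonoidHom, by
        have := Subgroup.map_mono (f := θ.toMonoidHom) M.2
        rwa [hB] at this⟩
      invFun := fun M => ⟨M.1.map θ.symm.toMonoidHom, by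
        have := Subgroup.map_mono (f := θ.symm.toMonoidHom) M.2
        rwa [hB'] at this⟩
      left_inv := by
        intro M
        apply Subtype.ext
        show (M.1.map θ.toMonoidHom).map θ.symm.toMonoidHom = M.1
        rw [Subgroup.map_map]
        have : θ.symm.toMonoidHom.comp θ.toMonoidHom = MonoidHom.id G := by
          ext x
          simp
        rw [this, Subgroup.map_id]
      right_inv := by
        intro M
        apply Subtype.ext
        show (M.1.map θ.symm.toMonoidHom).map θ.toMonoidHom = M.1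
        rw [Subgroup.map_map]
        have : θ.toMonoidHom.comp θ.symm.toMonoidHom = MonoidHom.id G := by
          ext x
          simp
        rw [this, Subgroup.map_id]
      map_rel_iff' := by
        intro M M'
        show M.1.map θ.toMonoidHom ≤ M'.1.map θ.toMonoidHom ↔ M.1 ≤ M'.1
        exact Subgroup.map_le_map_iff_of_injective θ.injective }
  let ψ : Set P.S ≃o Set P.S := (e.trans Θ).trans e.symm
  have hatom : IsAtom (ψ {⟨s, hs⟩}) := (OrderIso.isAtom_iff ψ _).mpr (Set.isAtom_singleton _)
  obtain ⟨x, hx⟩ := Set.isAtom_iff.mp hatom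
  refine ⟨x.1, x.2, ?_⟩
  have h1 : e {x} = Θ (e {⟨s, hs⟩}) := by
    rw [← hx]
    show e (e.symm (Θ (e {⟨s, hs⟩}))) = _
    rw [OrderIso.apply_symm_apply]
  have h2 := congrArg Subtype.val h1
  rw [he] at h2
  have h3 : ((Θ (e {⟨s, hs⟩}) : {M : Subgroup G // P.B ≤ M}) : Subgroup G)
      = ((e {⟨s, hs⟩} : {M : Subgroup G // P.B ≤ M}) : Subgroup G).map θ.toMonoidHom := rfl
  rw [h3, he, Set.image_singleton, Set.image_singleton] at h2
  exact h2.symm

end Cfsg.Agent.Lib.Helper69.Aut
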