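/-
helper69: S2156 module [PAR]: an automorphism fixing `U` permutes the minimal parabolic subgroups.
-/
import Cfsg.Agent.Lib.Helper69.Aut.ParAbs
import Cfsg.Agent.Lib.Helper69.Aut.Defs
import Cfsg.Agent.Lib.Helper91.OutInn
import Cfsg.Agent.S1042
import Cfsg.Agent.S1036

set_option autoImplicit false

namespace Cfsg.Agent.Lib.Helper69.Aut

open Cfsg Cfsg.Lie Cfsg.Agent.Lib.Helper18 Cfsg.Agent.Lib.Helper91.ChevGen

universe u

variable {F : Type u} [Field F] {D : ChevalleyDatum}

/-- The image of a subgroup of the group under an automorphism, in terms of `img`. -/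
theorem img_map_subtype (θ : ↥(D.group F) ≃* ↥(D.group F)) (M : Subgroup ↥(D.group F)) :
    img θ (M.map (D.group F).subtype) = (M.map θ.toMonoidHom).map (D.group F).subtype := by
  unfold img
  congr 2
  unfold Subgroup.subgroupOf
  exact Subgroup.comap_map_eq_self_of_injective (Subgroup.subtype_injective _) M

/-- An automorphism fixing `U` maps `B` into `B`. -/
theorem map_borel_le (hD : D ∈ [chevG2, chevB2, chevD4, chevF4, chevE6, chevE7, chevE8])
    (θ : ↥(D.group F) ≃* ↥(D.group F)) (hU : img θ (D.posUnipotent F) = D.posUnipotent F) :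
    ((D.borelSubgroup F).subgroupOf (D.group F)).map θ.toMonoidHom ≤ (D.borelSubgroup F).subgroupOf (D.group F) := by
  have hBN : D.borelSubgroup F ≤ Subgroup.normalizer (D.posUnipotent F : Set (GL D.Idx F)) := by
    unfold ChevalleyDatum.borelSubgroup
    exact sup_le Subgroup.le_normalizer (Cfsg.Agent.S1036.result D hD).1
  rintro _ ⟨b, hb, rfl⟩
  have hb' : (b : GL D.Idx F) ∈ D.borelSubgroup F := Subgroup.mem_subgroupOf.mp hb
  rw [Subgroup.mem_subgroupOf, ← Cfsg.Agent.Lib.Helper91.OutInn.normalizer_posUnipotent hD]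
  refine Subgroup.mem_inf.mpr ⟨?_, (θ b).2⟩
  rw [Subgroup.mem_normalizer_iff]
  intro v
  constructor
  · intro hv
    rw [← hU] at hv
    obtain ⟨u, hu, rfl⟩ := (mem_img θ _ v).mp hv
    rw [← hU]
    refine (mem_img θ _ _).mpr ⟨b * u * b⁻¹, ?_, ?_⟩
    · exact (Subgroup.mem_normalizer_iff.mp (hBN hb') _).mp hu
    · rw [map_mul, map_mul, map_inv]
      rfl
  · intro hv
    rw [← hU] at hv
    obtain ⟨u, hu, hue⟩ := (mem_img θ _ _).mp hv
    rw [← hU]
    refine (mem_img θ _ _).mpr ⟨b⁻¹ * u * b, ?_, ?_⟩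
    · have := (Subgroup.mem_normalizer_iff.mp (hBN (inv_mem hb')) _).mp hu
      simpa using this
    · rw [map_mul, map_mul, map_inv]
      show ((θ b : ↥(D.group F)) : GL D.Idx F)⁻¹ * ((θ u : ↥(D.group F)) : GL D.Idx F) * ((θ b : ↥(D.group F)) : GL D.Idx F) = v
      rw [hue]
      simp only [MulEquiv.coe_toMonoidHom]
      group

/-- [PAR] -/
theorem img_parabolic (hD : D ∈ [chevG2, chevB2, chevD4, chevF4, chevE6, chevE7, chevE8])
    (θ : ↥(D.group F) ≃* ↥(D.group F)) (hU : img θ (D.posUnipotent F) = D.posUnipotent F) (i : Fin D.rank) :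
    ∃ j : Fin D.rank, img θ (D.parabolicSubgroup F {i.val}) = D.parabolicSubgroup F {j.val} := by
  obtain ⟨C⟩ := nonempty_chevData.{u} D hD
  obtain ⟨P, hPB, hPN, hPS⟩ := Cfsg.Agent.S1042.exists_bnPair (F := F) D hD C
  obtain ⟨hBG, hNG, -⟩ := Cfsg.Agent.S1043.result (F := F) D hD
  have hUG : D.posUnipotent F ≤ D.group F :=
    le_trans (by unfold ChevalleyDatum.borelSubgroup; exact le_sup_left) hBG
  -- `θ` fixes `B`
  have hUsymm : img θ.symm (D.posUnipotent F) = D.posUnipotent F := by
    have := img_trans θ θ.symm (D.posUnipotent F)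
    rw [MulEquiv.self_trans_symm, img_refl _ hUG, hU] at this
    exact this.symm
  have hB : P.B.map θ.toMonoidHom = P.B := by
    rw [hPB]
    apply le_antisymm (map_borel_le hD θ hU)
    have h1 := map_borel_le hD θ.symm hUsymm
    have h2 := Subgroup.map_mono (f := θ.toMonoidHom) h1
    rw [Subgroup.map_map] at h2
    have : θ.toMonoidHom.comp θ.symm.toMonoidHom = MonoidHom.id _ := by
      ext x
      simp
    rw [this, Subgroup.map_id] at h2
    exact h2
  -- the translation between the abstract and the concrete parabolic subgroups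
  have htr : ∀ (k : ℕ) (hk : k < D.rank) (s : ↥(D.group F)),
      ((s : GL D.Idx F) : Matrix D.Idx D.Idx F) = D.nMat F (D.simple k) 1 →
      (P.parabolic {s}).map (D.group F).subtype = D.parabolicSubgroup F {k} := by
    intro k hk s hs
    unfold Cfsg.BNPair.parabolic ChevalleyDatum.parabolicSubgroup
    rw [Subgroup.map_sup, hPB, Subgroup.subgroupOf_map_subtype, inf_eq_left.mpr hBG, MonoidHom.map_closure]
    congr 2
    ext g
    constructor
    · rintro ⟨y, hy, rfl⟩
      rw [Set.mem_singleton_iff] at hy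
      subst hy
      exact ⟨k, rfl, hk, hs⟩
    · rintro ⟨j, hj, -, hg⟩
      rw [Set.mem_singleton_iff] at hj
      subst hj
      refine ⟨s, rfl, ?_⟩
      apply Units.ext
      rw [hg]
      exact hs
  -- the distinguished generator of the node `i`
  have hsG : sG (F := F) hD C i.val ∈ D.group F := hNG (sG_mem_monomial hD C i.val)
  let s : ↥(D.group F) := ⟨sG hD C i.val, hsG⟩
  have hsm : ((s : GL D.Idx F) : Matrix D.Idx D.Idx F) = D.nMat F (D.simple i.val) 1 := coe_sG hD C i.val i.isLt
  have hsS : s ∈ P.S := by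
    rw [hPS]
    exact ⟨i.val, i.isLt, hsm⟩
  obtain ⟨s', hs'S, hs'⟩ := bn_map_parabolic P θ hB s hsS
  rw [hPS] at hs'S
  obtain ⟨j, hj, hjm⟩ := hs'S
  refine ⟨⟨j, hj⟩, ?_⟩
  rw [← htr i.val i.isLt s hsm, img_map_subtype, hs', htr j hj s' hjm]

end Cfsg.Agent.Lib.Helper69.Aut
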