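/-
helper69: S2156, the modules contributed by the team, restated in this namespace.
[FIELD] [CARTAN2] [COMB1] [COMB2] helper87, [COMM] helper91, [RANK1] helper73, [TORUS] helper89,
[SYL] [VPAR] helper6, [OPP] [DIAG] [LONG] [PAR] helper69.
-/
import Cfsg.Agent.Lib.Helper69.Aut.Par
import Cfsg.Agent.Lib.Helper69.Aut.Opp
import Cfsg.Agent.Lib.Helper69.Aut.Diag
import Cfsg.Agent.Lib.Helper69.Aut.Long
import Cfsg.Agent.Lib.Helper87.AutField
import Cfsg.Agent.Lib.Helper87.AutCartan2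
import Cfsg.Agent.Lib.Helper87.AutComb1
import Cfsg.Agent.Lib.Helper87.AutComb2
import Cfsg.Agent.Lib.Helper91.AutCOMM
import Cfsg.Agent.Lib.Helper73.AutRANK1
import Cfsg.Agent.Lib.Helper89.AutTORUS
import Cfsg.Agent.Lib.Helper6.AutSYL
import Cfsg.Agent.Lib.Helper6.AutVPAR
import Cfsg.Agent.S1080

set_option autoImplicit false

namespace Cfsg.Agent.Lib.Helper69.Aut

open Cfsg Cfsg.Lie Cfsg.Agent.Lib.Helper18 Cfsg.Agent.Lib.Helper91.ChevGen

universe u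

variable {F : Type u} [Field F] {D : ChevalleyDatum}

/-- [SYL] -/
theorem exists_conj_posUnipotent [Finite F] (hD : D ∈ [chevG2, chevB2, chevD4, chevF4, chevE6, chevE7, chevE8])
    (θ : ↥(D.group F) ≃* ↥(D.group F)) :
    ∃ x : ↥(D.group F), img θ (D.posUnipotent F) =
      (D.posUnipotent F).map (MulAut.conj (x : GL D.Idx F)).toMonoidHom :=
  Cfsg.Agent.Lib.Helper6.Aut.exists_conj_posUnipotent hD θ

/-- [VPAR] -/
theorem negUnipotent_inf_parabolic [Finite F] (hD : D ∈ [chevG2, chevB2, chevD4, chevF4, chevE6, chevE7, chevE8])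
    (i : ℕ) (hi : i < D.rank) :
    D.negUnipotent F ⊓ D.parabolicSubgroup F {i} = D.rootSubgroup F (D.neg (D.simple i)) :=
  Cfsg.Agent.Lib.Helper6.Aut.negUnipotent_inf_parabolic hD i hi

/-- [TORUS] -/
theorem torus_rel (hD : D ∈ [chevG2, chevB2, chevD4, chevF4, chevE6, chevE7, chevE8])
    (θ : ↥(D.group F) ≃* ↥(D.group F)) (i j i' j' : ℕ) (hi : i < D.rank) (hj : j < D.rank) (hi' : i' < D.rank)
    (hj' : j' < D.rank) (fi gi fj : F → F)
    (hfi : ∀ t, θ (xS hD (D.simple i) t) = xS hD (D.simple i') (fi t))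
    (hgi : ∀ t, θ (xS hD (D.neg (D.simple i)) t) = xS hD (D.neg (D.simple i')) (gi t))
    (hfj : ∀ t, θ (xS hD (D.simple j) t) = xS hD (D.simple j') (fj t))
    (hrk : ∀ t : F, t ≠ 0 → gi (-t⁻¹) = -(fi t)⁻¹) (h1 : fi 1 = 1) :
    ∀ t u : F, t ≠ 0 → fj (t ^ (D.cartan i (D.simple j)) * u) = (fi t) ^ (D.cartan i' (D.simple j')) * fj u :=
  Cfsg.Agent.Lib.Helper89.Aut.torus_rel hD θ i j i' j' hi hj hi' hj' fi gi fj hfi hgi hfj hrk h1

/-- [COMM1] -/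
theorem comm_pos_neg (hD : D ∈ [chevG2, chevB2, chevD4, chevF4, chevE6, chevE7, chevE8]) (i j : ℕ)
    (hi : i < D.rank) (hj : j < D.rank) (hij : i ≠ j) (t u : F) :
    xG hD (D.simple i) t * xG hD (D.neg (D.simple j)) u = xG hD (D.neg (D.simple j)) u * xG hD (D.simple i) t :=
  Cfsg.Agent.Lib.Helper91.Aut.comm_pos_neg hD i j hi hj hij t u

/-- [COMM2] -/
theorem not_comm_pos_neg (hD : D ∈ [chevG2, chevB2, chevD4, chevF4, chevE6, chevE7, chevE8]) (i : ℕ)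
    (hi : i < D.rank) :
    xG hD (D.simple i) (1 : F) * xG hD (D.neg (D.simple i)) 1 ≠
      xG hD (D.neg (D.simple i)) 1 * xG hD (D.simple i) 1 :=
  Cfsg.Agent.Lib.Helper91.Aut.not_comm_pos_neg hD i hi

/-- [COMM3] -/
theorem comm_simple_iff (hD : D ∈ [chevG2, chevB2, chevD4, chevF4, chevE6, chevE7, chevE8]) (i j : ℕ)
    (hi : i < D.rank) (hj : j < D.rank) (hij : i ≠ j) :
    (∀ t u : F, xG hD (D.simple i) t * xG hD (D.simple j) u = xG hD (D.simple j) u * xG hD (D.simple i) t) ↔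
      D.bonds i j = 0 :=
  Cfsg.Agent.Lib.Helper91.Aut.comm_simple_iff hD i j hi hj hij

/-- [RANK1] -/
theorem rank_one_rel (hD : D ∈ [chevG2, chevB2, chevD4, chevF4, chevE6, chevE7, chevE8])
    (θ : ↥(D.group F) ≃* ↥(D.group F)) (r r' : ℕ) (hr : r < D.nroots) (hr' : r' < D.nroots) (f g : F → F)
    (hf : ∀ t, θ (xS hD r t) = xS hD r' (f t)) (hg : ∀ t, θ (xS hD (D.neg r) t) = xS hD (D.neg r') (g t)) :
    ∀ t : F, t ≠ 0 → f t ≠ 0 ∧ g (-t⁻¹) = -(f t)⁻¹ :=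
  Cfsg.Agent.Lib.Helper73.Aut.rank_one_rel hD θ r r' hr hr' f g hf hg

/-- [FIELD] -/
theorem mul_of_sq_rel [Finite F] (f : F → F) (hadd : ∀ a b, f (a + b) = f a + f b) (h1 : f 1 = 1)
    (hsq : ∀ t u : F, t ≠ 0 → f (t ^ 2 * u) = (f t) ^ 2 * f u) : ∀ a b, f (a * b) = f a * f b :=
  Cfsg.Agent.Lib.Helper87.Aut.mul_of_sq_rel f hadd h1 hsq

/-- [COMB1] -/
theorem isDiagramSymmetry_of_adj (hD : D ∈ [chevG2, chevB2, chevD4, chevF4, chevE6, chevE7, chevE8])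
    (π : Equiv.Perm (Fin D.rank))
    (h : ∀ i j : Fin D.rank, i ≠ j → (D.bonds (π i) (π j) = 0 ↔ D.bonds i j = 0)) : D.IsDiagramSymmetry π :=
  Cfsg.Agent.Lib.Helper87.Aut.isDiagramSymmetry_of_adj hD π h

/-- [COMB2] -/
theorem exists_common_sigma [Finite F] (hD : D ∈ [chevG2, chevB2, chevD4, chevF4, chevE6, chevE7, chevE8])
    (π : Equiv.Perm (Fin D.rank)) (hπ : D.IsDiagramSymmetry π) (σ : Fin D.rank → F ≃+* F)
    (hrel : ∀ (i j : Fin D.rank) (t : F), t ≠ 0 →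
      (σ i t) ^ (D.cartan (π i) (D.simple (π j))) = (σ j t) ^ (D.cartan i (D.simple j))) :
    ∃ τ : F ≃+* F, ∀ (i : Fin D.rank) (t : F), σ i t = (τ t) ^ D.graphExp (ringChar F) i (π i) :=
  Cfsg.Agent.Lib.Helper87.Aut.exists_common_sigma hD π hπ σ hrel

/-- [CARTAN2] -/
theorem cartan_self (hD : D ∈ [chevG2, chevB2, chevD4, chevF4, chevE6, chevE7, chevE8]) (i : ℕ) (hi : i < D.rank) :
    D.cartan i (D.simple i) = 2 :=
  Cfsg.Agent.Lib.Helper87.Aut.cartan_self hD i hi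

end Cfsg.Agent.Lib.Helper69.Aut
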