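/-
helper69: S2156, Part I assembly: every automorphism is an inner automorphism times one carrying the fundamental
root subgroups and their negatives to such (`HasRootMap`).
-/
import Cfsg.Agent.Lib.Helper69.Aut.Mods
import Cfsg.Agent.S1043
import Cfsg.Agent.S1041
import Cfsg.Agent.S1036
import Cfsg.Agent.Lib.Helper18.Order1
import Cfsg.Agent.Lib.Helper61.ChevJ.Basic

set_option autoImplicit false

namespace Cfsg.Agent.Lib.Helper69.Aut

open Cfsg Cfsg.Lie Cfsg.Agent.Lib.Helper18 Cfsg.Agent.Lib.Helper91.ChevGen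

universe u

variable {F : Type u} [Field F] {D : ChevalleyDatum}

theorem map_conj_inv_map_conj {G : Type*} [Group G] (K : Subgroup G) (a : G) :
    (K.map (MulAut.conj a).toMonoidHom).map (MulAut.conj a⁻¹).toMonoidHom = K := by
  rw [Subgroup.map_map]
  ext g
  rw [Subgroup.mem_map]
  constructor
  · rintro ⟨k, hk, rfl⟩
    simpa [MulAut.conj_apply, mul_assoc] using hk
  · intro hg
    exact ⟨g, hg, by simp [MulAut.conj_apply, mul_assoc]⟩

theorem map_conj_eq_iff {G : Type*} [Group G] (K L : Subgroup G) (a : G) :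
    K.map (MulAut.conj a).toMonoidHom = L ↔ K = L.map (MulAut.conj a⁻¹).toMonoidHom := by
  constructor
  · rintro rfl
    exact (map_conj_inv_map_conj K a).symm
  · rintro rfl
    have := map_conj_inv_map_conj L a⁻¹
    rwa [inv_inv] at this

theorem posUnipotent_le_group (hD : D ∈ [chevG2, chevB2, chevD4, chevF4, chevE6, chevE7, chevE8]) :
    D.posUnipotent F ≤ D.group F := by
  rw [← Cfsg.Agent.S1041.result D hD]
  exact le_sup_left

theorem negUnipotent_le_group (hD : D ∈ [chevG2, chevB2, chevD4, chevF4, chevE6, chevE7, chevE8]) :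
    D.negUnipotent F ≤ D.group F := by
  rw [← Cfsg.Agent.S1041.result D hD]
  exact le_sup_right

theorem rootSubgroup_le_group (hD : D ∈ [chevG2, chevB2, chevD4, chevF4, chevE6, chevE7, chevE8]) (r : ℕ) :
    D.rootSubgroup F r ≤ D.group F := by
  intro g hg
  obtain ⟨t, rfl⟩ := (mem_rootSubgroup_iff hD r g).mp hg
  exact xG_mem hD r t

/-- `B` normalises `U`. -/
theorem map_conj_posUnipotent_of_borel (hD : D ∈ [chevG2, chevB2, chevD4, chevF4, chevE6, chevE7, chevE8])
    (b : GL D.Idx F) (hb : b ∈ D.borelSubgroup F) :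
    (D.posUnipotent F).map (MulAut.conj b).toMonoidHom = D.posUnipotent F := by
  have hN : D.borelSubgroup F ≤ Subgroup.normalizer (D.posUnipotent F : Set (GL D.Idx F)) := by
    unfold ChevalleyDatum.borelSubgroup
    exact sup_le Subgroup.le_normalizer (Cfsg.Agent.S1036.result D hD).1
  have hbN := hN hb
  ext g
  rw [Subgroup.mem_map]
  constructor
  · rintro ⟨k, hk, rfl⟩
    exact ((Subgroup.mem_normalizer_iff.mp hbN) k).mp hk
  · intro hg
    refine ⟨b⁻¹ * g * b, ?_, by simp [MulAut.conj_apply, mul_assoc]⟩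
    have := (Subgroup.mem_normalizer_iff.mp (inv_mem hbN) g).mp hg
    simpa using this

/-- Normalisation: `θ = inn(x) ∘ θ'` with `θ'` fixing `U` and `V`. -/
theorem exists_normalized [Finite F] (hD : D ∈ [chevG2, chevB2, chevD4, chevF4, chevE6, chevE7, chevE8])
    (θ : ↥(D.group F) ≃* ↥(D.group F)) :
    ∃ (x : ↥(D.group F)) (θ' : ↥(D.group F) ≃* ↥(D.group F)),
      (∀ y, θ y = x * θ' y * x⁻¹) ∧ IsNormalized θ' := by
  obtain ⟨x₁, hx₁⟩ := exists_conj_posUnipotent hD θ
  have hUG := posUnipotent_le_group (F := F) hD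
  have hVG := negUnipotent_le_group (F := F) hD
  set θ₁ : ↥(D.group F) ≃* ↥(D.group F) := θ.trans (conjS x₁⁻¹) with hθ₁
  have h1U : img θ₁ (D.posUnipotent F) = D.posUnipotent F := by
    rw [hθ₁, img_trans, hx₁, img_conjS _ _ ?_]
    · have := map_conj_inv_map_conj (D.posUnipotent F) (x₁ : GL D.Idx F)
      simpa using this
    · rw [← hx₁]
      exact img_le_group θ _
  obtain ⟨b, hb, hbV⟩ := exists_conj_negUnipotent hD θ₁ h1U
  have hbG : b ∈ D.group F := (Cfsg.Agent.S1043.result D hD).1 hb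
  set b' : ↥(D.group F) := ⟨b, hbG⟩ with hb'
  set θ₂ : ↥(D.group F) ≃* ↥(D.group F) := θ₁.trans (conjS b'⁻¹) with hθ₂
  refine ⟨x₁ * b', θ₂, ?_, ?_, ?_⟩
  · intro y
    simp only [hθ₂, hθ₁, MulEquiv.trans_apply, conjS_apply, inv_inv]
    group
  · rw [hθ₂, img_trans, h1U, img_conjS _ _ hUG]
    have hb1 : ((b'⁻¹ : ↥(D.group F)) : GL D.Idx F) = b⁻¹ := rfl
    rw [hb1]
    exact map_conj_posUnipotent_of_borel hD b⁻¹ (inv_mem hb)
  · rw [hθ₂, img_trans, hbV, img_conjS _ _ ?_]
    · have hb1 : ((b'⁻¹ : ↥(D.group F)) : GL D.Idx F) = b⁻¹ := rfl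
      rw [hb1]
      exact map_conj_inv_map_conj (D.negUnipotent F) b
    · rw [← hbV]
      exact img_le_group θ₁ _

/-- A normalised automorphism permutes the negative fundamental root subgroups. -/
theorem img_neg_simple [Finite F] (hD : D ∈ [chevG2, chevB2, chevD4, chevF4, chevE6, chevE7, chevE8])
    (θ : ↥(D.group F) ≃* ↥(D.group F)) (h : IsNormalized θ) (i : Fin D.rank) :
    ∃ j : Fin D.rank, img θ (D.rootSubgroup F (D.neg (D.simple i))) = D.rootSubgroup F (D.neg (D.simple j)) := by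
  obtain ⟨j, hj⟩ := img_parabolic hD θ h.1 i
  refine ⟨j, ?_⟩
  rw [← negUnipotent_inf_parabolic hD i.val i.isLt, img_inf, h.2, hj, negUnipotent_inf_parabolic hD j.val j.isLt]

/-- A normalised automorphism permutes the positive fundamental root subgroups. -/
theorem img_pos_simple [Finite F] (hD : D ∈ [chevG2, chevB2, chevD4, chevF4, chevE6, chevE7, chevE8])
    (θ : ↥(D.group F) ≃* ↥(D.group F)) (h : IsNormalized θ) (i : Fin D.rank) :
    ∃ j : Fin D.rank, img θ (D.rootSubgroup F (D.simple i)) = D.rootSubgroup F (D.simple j) := by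
  obtain ⟨n, hnN, hnU, hnV, star, hstar⟩ := exists_longest_conj (F := F) hD
  have hnG : n ∈ D.group F := (Cfsg.Agent.S1043.result D hD).2.1 hnN
  have hUG := posUnipotent_le_group (F := F) hD
  have hVG := negUnipotent_le_group (F := F) hD
  set n' : ↥(D.group F) := ⟨n, hnG⟩ with hn'
  have hn1 : ((n'⁻¹ : ↥(D.group F)) : GL D.Idx F) = n⁻¹ := rfl
  have hn2 : ((n' : ↥(D.group F)) : GL D.Idx F) = n := rfl
  set θ'' : ↥(D.group F) ≃* ↥(D.group F) := (conjS n').trans (θ.trans (conjS n'⁻¹)) with hθ''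
  have key : ∀ K : Subgroup (GL D.Idx F), K ≤ D.group F →
      img θ'' K = (img θ (K.map (MulAut.conj n).toMonoidHom)).map (MulAut.conj n⁻¹).toMonoidHom := by
    intro K hK
    rw [hθ'', img_trans, img_trans, img_conjS _ _ hK, img_conjS _ _ (img_le_group θ _), hn1, hn2]
  have hnorm : IsNormalized θ'' := by
    constructor
    · rw [key _ hUG, hnU, h.2, ← (map_conj_eq_iff _ _ n).mp hnU]
    · rw [key _ hVG, hnV, h.1, ← (map_conj_eq_iff _ _ n).mp hnV]
  obtain ⟨j₀, hj₀⟩ := img_neg_simple hD θ'' hnorm (star.symm i)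
  refine ⟨star j₀, ?_⟩
  rw [key _ (rootSubgroup_le_group hD _), hstar, Equiv.apply_symm_apply] at hj₀
  rw [← hstar j₀]
  have := (map_conj_eq_iff _ _ n⁻¹).mp hj₀
  rwa [inv_inv] at this


theorem simple_lt' (hD : D ∈ [chevG2, chevB2, chevD4, chevF4, chevE6, chevE7, chevE8]) (i : ℕ) (hi : i < D.rank) :
    D.simple i < D.nroots := by
  obtain ⟨C⟩ := nonempty_chevData.{0} D hD
  exact C.simple_lt i hi

theorem neg_lt' (hD : D ∈ [chevG2, chevB2, chevD4, chevF4, chevE6, chevE7, chevE8]) (r : ℕ) (hr : r < D.nroots) :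
    D.neg r < D.nroots :=
  neg_lt_nroots D hD r hr

theorem simple_injective (hD : D ∈ [chevG2, chevB2, chevD4, chevF4, chevE6, chevE7, chevE8]) (i k : ℕ)
    (hi : i < D.rank) (hk : k < D.rank) (h : D.simple i = D.simple k) : i = k := by
  obtain ⟨X⟩ := Cfsg.Agent.Lib.Helper61.ChevJ.nonempty_jData.{0} D hD
  have h1 := X.coroot_simple i hi i hi
  have h2 := X.coroot_simple k hk i hi
  rw [h, h2] at h1
  by_contra hne
  rw [if_neg hne, if_pos rfl] at h1
  exact zero_ne_one h1

/-- Distinct roots have distinct root subgroups. -/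
theorem rootSubgroup_injective (hD : D ∈ [chevG2, chevB2, chevD4, chevF4, chevE6, chevE7, chevE8]) (a b : ℕ)
    (ha : a < D.nroots) (hb : b < D.nroots) (h : D.rootSubgroup F a = D.rootSubgroup F b) : a = b := by
  have h1 : xG hD a (1 : F) ∈ D.rootSubgroup F b := by
    rw [← h]
    exact (mem_rootSubgroup_iff hD a _).mpr ⟨1, rfl⟩
  obtain ⟨t', ht'⟩ := (mem_rootSubgroup_iff hD b _).mp h1
  exact (xG_inj_root hD a b ha hb 1 t' one_ne_zero ht').symm

/-- The two permutations agree. -/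
theorem same_index (hD : D ∈ [chevG2, chevB2, chevD4, chevF4, chevE6, chevE7, chevE8])
    (θ : ↥(D.group F) ≃* ↥(D.group F)) (i j j' : Fin D.rank)
    (h1 : img θ (D.rootSubgroup F (D.simple i)) = D.rootSubgroup F (D.simple j))
    (h2 : img θ (D.rootSubgroup F (D.neg (D.simple i))) = D.rootSubgroup F (D.neg (D.simple j'))) : j = j' := by
  by_contra hne
  have ha : ((θ (xS hD (D.simple i) 1) : ↥(D.group F)) : GL D.Idx F) ∈ D.rootSubgroup F (D.simple j) := by
    rw [← h1]
    exact (mem_img _ _ _).mpr ⟨_, (mem_rootSubgroup_iff hD _ _).mpr ⟨1, rfl⟩, rfl⟩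
  have hb : ((θ (xS hD (D.neg (D.simple i)) 1) : ↥(D.group F)) : GL D.Idx F) ∈
      D.rootSubgroup F (D.neg (D.simple j')) := by
    rw [← h2]
    exact (mem_img _ _ _).mpr ⟨_, (mem_rootSubgroup_iff hD _ _).mpr ⟨1, rfl⟩, rfl⟩
  obtain ⟨a, ha⟩ := (mem_rootSubgroup_iff hD _ _).mp ha
  obtain ⟨b, hb⟩ := (mem_rootSubgroup_iff hD _ _).mp hb
  have hcomm := comm_pos_neg hD j j' j.isLt j'.isLt (Fin.val_ne_of_ne hne) a b
  have e : θ (xS hD (D.simple i) 1 * xS hD (D.neg (D.simple i)) 1) =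
      θ (xS hD (D.neg (D.simple i)) 1 * xS hD (D.simple i) 1) := by
    rw [map_mul, map_mul]
    apply Subtype.ext
    rw [Subgroup.coe_mul, Subgroup.coe_mul, ha, hb]
    exact hcomm
  have e2 := congrArg Subtype.val (θ.injective e)
  exact not_comm_pos_neg hD i i.isLt e2

/-- A normalised automorphism has a root map. -/
theorem hasRootMap_of_normalized [Finite F] (hD : D ∈ [chevG2, chevB2, chevD4, chevF4, chevE6, chevE7, chevE8])
    (θ : ↥(D.group F) ≃* ↥(D.group F)) (h : IsNormalized θ) : HasRootMap hD θ := by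
  choose jn hjn using img_neg_simple hD θ h
  choose jp hjp using img_pos_simple hD θ h
  have hsame : ∀ i, jp i = jn i := fun i => same_index hD θ i _ _ (hjp i) (hjn i)
  have hinj : Function.Injective jp := by
    intro i k hik
    have e : img θ (D.rootSubgroup F (D.simple i)) = img θ (D.rootSubgroup F (D.simple k)) := by
      rw [hjp i, hjp k, hik]
    have e2 := img_injective θ (rootSubgroup_le_group hD _) (rootSubgroup_le_group hD _) e
    have e3 := rootSubgroup_injective hD _ _ (simple_lt' hD i i.isLt) (simple_lt' hD k k.isLt) e2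
    exact Fin.ext (simple_injective hD i k i.isLt k.isLt e3)
  have hf : ∀ (i : Fin D.rank) (t : F), ∃ s : F, θ (xS hD (D.simple i) t) = xS hD (D.simple (jp i)) s := by
    intro i t
    have hm : ((θ (xS hD (D.simple i) t) : ↥(D.group F)) : GL D.Idx F) ∈ D.rootSubgroup F (D.simple (jp i)) := by
      rw [← hjp i]
      exact (mem_img _ _ _).mpr ⟨_, (mem_rootSubgroup_iff hD _ _).mpr ⟨t, rfl⟩, rfl⟩
    obtain ⟨s, hs⟩ := (mem_rootSubgroup_iff hD _ _).mp hm
    exact ⟨s, Subtype.ext hs⟩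
  have hg : ∀ (i : Fin D.rank) (t : F), ∃ s : F,
      θ (xS hD (D.neg (D.simple i)) t) = xS hD (D.neg (D.simple (jp i))) s := by
    intro i t
    have hm : ((θ (xS hD (D.neg (D.simple i)) t) : ↥(D.group F)) : GL D.Idx F) ∈
        D.rootSubgroup F (D.neg (D.simple (jp i))) := by
      rw [hsame i, ← hjn i]
      exact (mem_img _ _ _).mpr ⟨_, (mem_rootSubgroup_iff hD _ _).mpr ⟨t, rfl⟩, rfl⟩
    obtain ⟨s, hs⟩ := (mem_rootSubgroup_iff hD _ _).mp hm
    exact ⟨s, Subtype.ext hs⟩
  choose f hf using hf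
  choose g hg using hg
  exact ⟨Equiv.ofBijective jp (Finite.injective_iff_bijective.mp hinj), f, g, hf, hg⟩

/-- Part I: every automorphism is inner times one with a root map. -/
theorem part_one [Finite F] (hD : D ∈ [chevG2, chevB2, chevD4, chevF4, chevE6, chevE7, chevE8])
    (θ : ↥(D.group F) ≃* ↥(D.group F)) :
    ∃ (x : ↥(D.group F)) (θ' : ↥(D.group F) ≃* ↥(D.group F)),
      (∀ y, θ y = x * θ' y * x⁻¹) ∧ HasRootMap hD θ' := by
  obtain ⟨x, θ', h1, h2⟩ := exists_normalized hD θ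
  exact ⟨x, θ', h1, hasRootMap_of_normalized hD θ' h2⟩

end Cfsg.Agent.Lib.Helper69.Aut
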