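/-
helper69: project OUT (S2121-S2125: orders of the outer automorphism groups of G2, F4, E6, E7, E8 over finite fields),
shared definitions: the subgroup `Nrm` of the automorphisms fixing `U` and `V`, the diagram symmetries realised by
graph automorphisms, the normal form `NF` of a normalised automorphism.
-/
import Cfsg.Agent.Lib.Helper69.Aut.Defs
import Cfsg.Agent.S1041
import Cfsg.Prelude.Def_ChevAutomorphisms
import Cfsg.Prelude.Def_KGroupFacts

set_option autoImplicit false

namespace Cfsg.Agent.Lib.Helper69.Aut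

open Cfsg Cfsg.Lie Cfsg.Agent.Lib.Helper18 Cfsg.Agent.Lib.Helper91.ChevGen

universe u

variable {F : Type u} [Field F] {D : ChevalleyDatum}

theorem posUnipotent_le_group' (hD : D ∈ [chevG2, chevB2, chevD4, chevF4, chevE6, chevE7, chevE8]) :
    D.posUnipotent F ≤ D.group F := by
  rw [← Cfsg.Agent.S1041.result D hD]
  exact le_sup_left

theorem negUnipotent_le_group' (hD : D ∈ [chevG2, chevB2, chevD4, chevF4, chevE6, chevE7, chevE8]) :
    D.negUnipotent F ≤ D.group F := by
  rw [← Cfsg.Agent.S1041.result D hD]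
  exact le_sup_right

theorem img_mul (a b : MulAut ↥(D.group F)) (K : Subgroup (GL D.Idx F)) : img (a * b) K = img a (img b K) :=
  img_trans b a K

theorem isNormalized_one (hD : D ∈ [chevG2, chevB2, chevD4, chevF4, chevE6, chevE7, chevE8]) :
    IsNormalized (1 : MulAut ↥(D.group F)) :=
  ⟨img_refl _ (posUnipotent_le_group' hD), img_refl _ (negUnipotent_le_group' hD)⟩

theorem isNormalized_mul {a b : MulAut ↥(D.group F)} (ha : IsNormalized a) (hb : IsNormalized b) :
    IsNormalized (a * b) := by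
  constructor
  · rw [img_mul, hb.1, ha.1]
  · rw [img_mul, hb.2, ha.2]

theorem isNormalized_inv (hD : D ∈ [chevG2, chevB2, chevD4, chevF4, chevE6, chevE7, chevE8])
    {a : MulAut ↥(D.group F)} (ha : IsNormalized a) : IsNormalized a⁻¹ := by
  constructor
  · have := img_mul a⁻¹ a (D.posUnipotent F)
    rw [inv_mul_cancel, ha.1] at this
    rw [← this]
    exact img_refl _ (posUnipotent_le_group' hD)
  · have := img_mul a⁻¹ a (D.negUnipotent F)
    rw [inv_mul_cancel, ha.2] at this
    rw [← this]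
    exact img_refl _ (negUnipotent_le_group' hD)

/-- The automorphisms fixing `U` and `V`. -/
def Nrm (hD : D ∈ [chevG2, chevB2, chevD4, chevF4, chevE6, chevE7, chevE8]) (F : Type u) [Field F] :
    Subgroup (MulAut ↥(D.group F)) where
  carrier := {θ | IsNormalized θ}
  mul_mem' := fun ha hb => isNormalized_mul ha hb
  one_mem' := isNormalized_one hD
  inv_mem' := fun ha => isNormalized_inv hD ha

theorem mem_Nrm (hD : D ∈ [chevG2, chevB2, chevD4, chevF4, chevE6, chevE7, chevE8])
    (θ : MulAut ↥(D.group F)) : θ ∈ Nrm hD F ↔ IsNormalized θ := Iff.rfl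

/-- `φ` is a graph automorphism for the diagram symmetry `π` (root elements as group elements). -/
def IsGraphAutWith (hD : D ∈ [chevG2, chevB2, chevD4, chevF4, chevE6, chevE7, chevE8])
    (π : Equiv.Perm (Fin D.rank)) (φ : ↥(D.group F) ≃* ↥(D.group F)) : Prop :=
  D.IsDiagramSymmetry π ∧ ∀ (i : Fin D.rank) (t : F),
    φ (xS hD (D.simple i) t) = xS hD (D.simple (π i)) (t ^ D.graphExp (ringChar F) i (π i)) ∧
    φ (xS hD (D.neg (D.simple i)) t) = xS hD (D.neg (D.simple (π i))) (t ^ D.graphExp (ringChar F) i (π i))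

theorem isGraphAut_iff (hD : D ∈ [chevG2, chevB2, chevD4, chevF4, chevE6, chevE7, chevE8])
    (φ : ↥(D.group F) ≃* ↥(D.group F)) : D.IsGraphAut φ ↔ ∃ π, IsGraphAutWith hD π φ := by
  constructor
  · rintro ⟨π, hπ, h⟩
    exact ⟨π, hπ, fun i t => ⟨(eq_xS hD _ _ _ ((h _ i t).1 rfl)), (eq_xS hD _ _ _ ((h _ i t).2 rfl))⟩⟩
  · rintro ⟨π, hπ, h⟩
    refine ⟨π, hπ, fun g i t => ⟨fun hg => ?_, fun hg => ?_⟩⟩
    · rw [eq_xS hD g _ _ hg, (h i t).1]
      rfl
    · rw [eq_xS hD g _ _ hg, (h i t).2]
      rfl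

/-- The diagram symmetries realised by a graph automorphism of the group over `F`. -/
def RealSym (hD : D ∈ [chevG2, chevB2, chevD4, chevF4, chevE6, chevE7, chevE8]) (F : Type u) [Field F] :
    Set (Equiv.Perm (Fin D.rank)) :=
  {π | ∃ φ : ↥(D.group F) ≃* ↥(D.group F), IsGraphAutWith hD π φ}

/-- The normal form of an automorphism carrying the fundamental root elements to such: permutation `π`, constants
`c`, field automorphism `τ`. -/
def NF (hD : D ∈ [chevG2, chevB2, chevD4, chevF4, chevE6, chevE7, chevE8])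
    (θ : ↥(D.group F) ≃* ↥(D.group F)) (π : Equiv.Perm (Fin D.rank)) (c : Fin D.rank → Fˣ) (τ : F ≃+* F) : Prop :=
  ∀ (i : Fin D.rank) (t : F),
    θ (xS hD (D.simple i) t) =
      xS hD (D.simple (π i)) ((c (π i) : F) * (τ t) ^ D.graphExp (ringChar F) i (π i)) ∧
    θ (xS hD (D.neg (D.simple i)) t) =
      xS hD (D.neg (D.simple (π i))) (((c (π i))⁻¹ : Fˣ) * (τ t) ^ D.graphExp (ringChar F) i (π i))

end Cfsg.Agent.Lib.Helper69.Aut
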