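/-
helper69: S2156, Part II assembly: an automorphism with a root map is diagonal ∘ graph ∘ field.
-/
import Cfsg.Agent.Lib.Helper69.Aut.Asm1
import Cfsg.Agent.Lib.Helper69.Aut.OutDefs

set_option autoImplicit false

namespace Cfsg.Agent.Lib.Helper69.Aut

open Cfsg Cfsg.Lie Cfsg.Agent.Lib.Helper18 Cfsg.Agent.Lib.Helper91.ChevGen

universe u

variable {F : Type u} [Field F] {D : ChevalleyDatum}

/-- Part II, strong form: the normal form of an automorphism with a root map, and its decomposition. -/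
theorem part_two_strong [Finite F] (hD : D ∈ [chevG2, chevB2, chevD4, chevF4, chevE6, chevE7, chevE8])
    (θ : ↥(D.group F) ≃* ↥(D.group F)) (h : HasRootMap hD θ) :
    ∃ (π : Equiv.Perm (Fin D.rank)) (c : Fin D.rank → Fˣ) (τ : F ≃+* F) (d g f : ↥(D.group F) ≃* ↥(D.group F)),
      NF hD θ π c τ ∧ IsGraphAutWith hD π g ∧
      D.IsDiagonalAut d ∧ D.IsFieldAut f ∧ ∀ y, θ y = d (g (f y)) := by
  obtain ⟨π, f, g, hf, hg⟩ := h
  have hsl : ∀ i : Fin D.rank, D.simple i < D.nroots := fun i => simple_lt' hD i i.isLt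
  have hnl : ∀ i : Fin D.rank, D.neg (D.simple i) < D.nroots := fun i => neg_lt' hD _ (hsl i)
  -- the constants
  have hf1 : ∀ i, f i 1 ≠ 0 := fun i =>
    (rank_one_rel hD θ _ _ (hsl i) (hsl (π i)) (f i) (g i) (hf i) (hg i) 1 one_ne_zero).1
  set c : Fin D.rank → Fˣ := fun k => Units.mk0 (f (π.symm k) 1) (hf1 _) with hc
  have hcπ : ∀ i, ((c (π i) : Fˣ) : F) = f i 1 := by
    intro i
    simp [hc]
  obtain ⟨d, hd, hdx⟩ := exists_diagonalAut hD c
  -- the inverse of d on root elements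
  have hdsymm : ∀ (k : Fin D.rank) (s : F),
      d.symm (xS hD (D.simple k) s) = xS hD (D.simple k) (((c k)⁻¹ : Fˣ) * s) ∧
      d.symm (xS hD (D.neg (D.simple k)) s) = xS hD (D.neg (D.simple k)) ((c k : F) * s) := by
    intro k s
    constructor
    · rw [MulEquiv.symm_apply_eq, (hdx k _).1, ← mul_assoc, ← Units.val_mul, mul_inv_cancel, Units.val_one,
        one_mul]
    · rw [MulEquiv.symm_apply_eq, (hdx k _).2, ← mul_assoc, ← Units.val_mul, inv_mul_cancel, Units.val_one,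
        one_mul]
  set θ₂ : ↥(D.group F) ≃* ↥(D.group F) := θ.trans d.symm with hθ₂
  set f₂ : Fin D.rank → F → F := fun i t => ((c (π i))⁻¹ : Fˣ) * f i t with hf₂def
  set g₂ : Fin D.rank → F → F := fun i t => (c (π i) : F) * g i t with hg₂def
  have hf₂ : ∀ (i : Fin D.rank) (t : F), θ₂ (xS hD (D.simple i) t) = xS hD (D.simple (π i)) (f₂ i t) := by
    intro i t
    rw [hθ₂, MulEquiv.trans_apply, hf, (hdsymm _ _).1]
  have hg₂ : ∀ (i : Fin D.rank) (t : F), θ₂ (xS hD (D.neg (D.simple i)) t) = xS hD (D.neg (D.simple (π i))) (g₂ i t) := by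
    intro i t
    rw [hθ₂, MulEquiv.trans_apply, hg, (hdsymm _ _).2]
  have h1 : ∀ i, f₂ i 1 = 1 := by
    intro i
    simp only [hf₂def]
    rw [← hcπ i, ← Units.val_mul, inv_mul_cancel, Units.val_one]
  -- additivity
  have hadd : ∀ i a b, f₂ i (a + b) = f₂ i a + f₂ i b := by
    intro i a b
    apply xS_injective hD _ (hsl (π i))
    rw [← hf₂, ← xS_mul, map_mul, hf₂, hf₂, xS_mul]
  have haddg : ∀ i a b, g₂ i (a + b) = g₂ i a + g₂ i b := by
    intro i a b
    apply xS_injective hD _ (hnl (π i))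
    rw [← hg₂, ← xS_mul, map_mul, hg₂, hg₂, xS_mul]
  -- the torus relations
  have htor : ∀ (i j : Fin D.rank) (t u : F), t ≠ 0 →
      f₂ j (t ^ (D.cartan i (D.simple j)) * u) = (f₂ i t) ^ (D.cartan (π i) (D.simple (π j))) * f₂ j u :=
    fun i j => torus_rel hD θ₂ i j (π i) (π j) i.isLt j.isLt (π i).isLt (π j).isLt (f₂ i) (g₂ i) (f₂ j)
      (hf₂ i) (hg₂ i) (hf₂ j)
      (fun t ht => (rank_one_rel hD θ₂ _ _ (hsl i) (hsl (π i)) (f₂ i) (g₂ i) (hf₂ i) (hg₂ i) t ht).2) (h1 i)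
  -- multiplicativity
  have hmul : ∀ i a b, f₂ i (a * b) = f₂ i a * f₂ i b := by
    intro i
    apply mul_of_sq_rel (f₂ i) (hadd i) (h1 i)
    intro t u ht
    have := htor i i t u ht
    rw [cartan_self hD i i.isLt, cartan_self hD (π i) (π i).isLt] at this
    exact_mod_cast this
  -- the field automorphisms
  have hzero : ∀ i, f₂ i 0 = 0 := by
    intro i
    have := hadd i 0 0
    rw [add_zero] at this
    exact left_eq_add.mp this
  let σh : Fin D.rank → (F →+* F) := fun i =>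
    { toFun := f₂ i
      map_one' := h1 i
      map_mul' := hmul i
      map_zero' := hzero i
      map_add' := hadd i }
  have hσbij : ∀ i, Function.Bijective (σh i) := fun i =>
    Finite.injective_iff_bijective.mp (σh i).injective
  let σ : Fin D.rank → (F ≃+* F) := fun i => RingEquiv.ofBijective (σh i) (hσbij i)
  have hσ : ∀ i t, σ i t = f₂ i t := fun i t => rfl
  -- g₂ = σ
  have hgσ : ∀ i t, g₂ i t = σ i t := by
    intro i t
    by_cases ht : t = 0
    · subst ht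
      rw [map_zero]
      have := haddg i 0 0
      rw [add_zero] at this
      exact left_eq_add.mp this
    · have hr := (rank_one_rel hD θ₂ _ _ (hsl i) (hsl (π i)) (f₂ i) (g₂ i) (hf₂ i) (hg₂ i) (-t⁻¹)
        (neg_ne_zero.mpr (inv_ne_zero ht))).2
      rw [inv_neg, neg_neg, inv_inv] at hr
      rw [hr, ← hσ, ← map_inv₀, ← map_neg, inv_neg, neg_neg, inv_inv]
  -- the relations between the σ
  have hrel : ∀ (i j : Fin D.rank) (t : F), t ≠ 0 →
      (σ i t) ^ (D.cartan (π i) (D.simple (π j))) = (σ j t) ^ (D.cartan i (D.simple j)) := by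
    intro i j t ht
    have := htor i j t 1 ht
    rw [mul_one, h1 j, mul_one] at this
    rw [hσ, ← this, ← hσ, map_zpow₀]
  -- adjacency
  have hadj : ∀ i j : Fin D.rank, i ≠ j → (D.bonds (π i) (π j) = 0 ↔ D.bonds i j = 0) := by
    intro i j hij
    have hij' : (i : ℕ) ≠ j := Fin.val_ne_of_ne hij
    have hπij : ((π i : Fin D.rank) : ℕ) ≠ π j := Fin.val_ne_of_ne (fun h => hij (π.injective h))
    rw [← comm_simple_iff (F := F) hD i j i.isLt j.isLt hij',
      ← comm_simple_iff (F := F) hD (π i) (π j) (π i).isLt (π j).isLt hπij]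
    constructor
    · intro hc t u
      have e := hc (f₂ i t) (f₂ j u)
      have e2 : θ₂ (xS hD (D.simple i) t * xS hD (D.simple j) u) =
          θ₂ (xS hD (D.simple j) u * xS hD (D.simple i) t) := by
        rw [map_mul, map_mul, hf₂, hf₂]
        exact Subtype.ext e
      exact congrArg Subtype.val (θ₂.injective e2)
    · intro hc t u
      obtain ⟨t', rfl⟩ := (hσbij i).2 t
      obtain ⟨u', rfl⟩ := (hσbij j).2 u
      have e := hc t' u'
      have e2 : xS hD (D.simple i) t' * xS hD (D.simple j) u' = xS hD (D.simple j) u' * xS hD (D.simple i) t' :=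
        Subtype.ext e
      have e3 := congrArg θ₂ e2
      rw [map_mul, map_mul, hf₂, hf₂] at e3
      exact congrArg Subtype.val e3
  have hπ : D.IsDiagramSymmetry π := isDiagramSymmetry_of_adj hD π hadj
  obtain ⟨τ, hτ⟩ := exists_common_sigma hD π hπ σ hrel
  obtain ⟨φ, hφ⟩ := Cfsg.Agent.S1080.result D hD τ
  have hφx : ∀ (r : ℕ) (hr : r < D.nroots) (t : F), φ (xS hD r t) = xS hD r (τ t) := by
    intro r hr t
    exact eq_xS hD _ r _ (hφ (xS hD r t) r t hr rfl)
  have hφsymm : ∀ (r : ℕ) (hr : r < D.nroots) (t : F), φ.symm (xS hD r t) = xS hD r (τ.symm t) := by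
    intro r hr t
    rw [MulEquiv.symm_apply_eq, hφx r hr, RingEquiv.apply_symm_apply]
  have hθd : ∀ y, θ y = d (θ₂ y) := by
    intro y
    rw [hθ₂, MulEquiv.trans_apply, MulEquiv.apply_symm_apply]
  refine ⟨π, c, τ, d, φ.symm.trans θ₂, φ, ?_, ⟨hπ, ?_⟩, hd, ⟨τ, fun y r t hr hy => hφ y r t hr hy⟩, ?_⟩
  · intro i t
    constructor
    · rw [hθd, hf₂, (hdx _ _).1, ← hσ, hτ]
    · rw [hθd, hg₂, (hdx _ _).2, hgσ, hτ]
  · intro i t
    constructor
    · rw [MulEquiv.trans_apply, hφsymm _ (hsl i), hf₂, ← hσ, hτ, RingEquiv.apply_symm_apply]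
    · rw [MulEquiv.trans_apply, hφsymm _ (hnl i), hg₂, hgσ, hτ, RingEquiv.apply_symm_apply]
  · intro y
    rw [MulEquiv.trans_apply, MulEquiv.symm_apply_apply, hθ₂, MulEquiv.trans_apply, MulEquiv.apply_symm_apply]

/-- Part II. -/
theorem part_two [Finite F] (hD : D ∈ [chevG2, chevB2, chevD4, chevF4, chevE6, chevE7, chevE8])
    (θ : ↥(D.group F) ≃* ↥(D.group F)) (h : HasRootMap hD θ) :
    ∃ d g f : ↥(D.group F) ≃* ↥(D.group F),
      D.IsDiagonalAut d ∧ D.IsGraphAut g ∧ D.IsFieldAut f ∧ ∀ y, θ y = d (g (f y)) := by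
  obtain ⟨π, c, τ, d, g, f, -, hg, hd, hf, hy⟩ := part_two_strong hD θ h
  exact ⟨d, g, f, hd, (isGraphAut_iff hD g).mpr ⟨π, hg⟩, hf, hy⟩

/-- [O-NF-EX] the normal form of an automorphism with a root map. -/
theorem exists_nf [Finite F] (hD : D ∈ [chevG2, chevB2, chevD4, chevF4, chevE6, chevE7, chevE8])
    (θ : ↥(D.group F) ≃* ↥(D.group F)) (h : HasRootMap hD θ) :
    ∃ (π : Equiv.Perm (Fin D.rank)) (c : Fin D.rank → Fˣ) (τ : F ≃+* F), π ∈ RealSym hD F ∧ NF hD θ π c τ := by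
  obtain ⟨π, c, τ, d, g, f, hnf, hg, -, -, -⟩ := part_two_strong hD θ h
  exact ⟨π, c, τ, ⟨g, hg⟩, hnf⟩

/-- An automorphism in normal form has a root map. -/
theorem hasRootMap_of_nf (hD : D ∈ [chevG2, chevB2, chevD4, chevF4, chevE6, chevE7, chevE8])
    (θ : ↥(D.group F) ≃* ↥(D.group F)) (π : Equiv.Perm (Fin D.rank)) (c : Fin D.rank → Fˣ) (τ : F ≃+* F)
    (h : NF hD θ π c τ) : HasRootMap hD θ :=
  ⟨π, fun i t => (c (π i) : F) * (τ t) ^ D.graphExp (ringChar F) i (π i),
    fun i t => ((c (π i))⁻¹ : Fˣ) * (τ t) ^ D.graphExp (ringChar F) i (π i),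
    fun i t => (h i t).1, fun i t => (h i t).2⟩

end Cfsg.Agent.Lib.Helper69.Aut
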