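/-
helper69: project OUT, module [POS]: linearity of the action of the Weyl group on the coordinates of the roots
(all seven types, coordinates on the fundamental roots from Helper18.CartanSNF), and the consequence: a word
sending every fundamental root to a positive root sends every positive root to a positive root.
(All-type version of Helper69.GraphFix1.)
-/
import Cfsg.Agent.Lib.Helper18.Tw13
import Cfsg.Agent.Lib.Helper18.CartanSNF

set_option autoImplicit false

namespace Cfsg.Agent.Lib.Helper69.Aut

open Cfsg Cfsg.Lie Cfsg.Agent.Lib.Helper18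

universe u

/-- The table check: coordinates of the fundamental roots, linearity of the Cartan integers, the reflection
formula, and the sign characterisation of the positive and negative roots. -/
def linOK2 (D : ChevalleyDatum) (m : ℕ → ℕ → ℤ) : Bool :=
  ((List.range D.rank).all fun i =>
    ((List.range D.rank).all fun k => m (D.simple i) k == if k = i then 1 else 0) &&
    (List.range D.nroots).all fun s =>
      (D.cartan i s == ((List.range D.rank).map fun k => m s k * D.cartan i (D.simple k)).sum) &&
      ((List.range D.rank).all fun k =>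
        m (D.reflectRoot i s) k == m s k - (if k = i then D.cartan i s else 0)))
  && (List.range D.nroots).all fun s =>
    (decide (D.nroots / 2 ≤ s) == (List.range D.rank).all fun k => decide (0 ≤ m s k))

set_option maxRecDepth 1000000 in
theorem linOK2_G2 : linOK2 chevG2 rootCoeffs_G2 = true := by decide +kernel

set_option maxRecDepth 1000000 in
theorem linOK2_B2 : linOK2 chevB2 rootCoeffs_B2 = true := by decide +kernel

set_option maxRecDepth 1000000 in
theorem linOK2_D4 : linOK2 chevD4 rootCoeffs_D4 = true := by decide +kernel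

set_option maxRecDepth 1000000 in
theorem linOK2_F4 : linOK2 chevF4 rootCoeffs_F4 = true := by decide +kernel

set_option maxRecDepth 1000000 in
theorem linOK2_E6 : linOK2 chevE6 rootCoeffs_E6 = true := by decide +kernel

set_option maxRecDepth 1000000 in
theorem linOK2_E7 : linOK2 chevE7 rootCoeffs_E7 = true := by decide +kernel

set_option maxRecDepth 1000000 in
theorem linOK2_E8 : linOK2 chevE8 rootCoeffs_E8 = true := by decide +kernel

theorem exists_linOK2 (D : ChevalleyDatum)
    (hD : D ∈ [chevG2, chevB2, chevD4, chevF4, chevE6, chevE7, chevE8]) :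
    ∃ m : ℕ → ℕ → ℤ, linOK2 D m = true := by
  simp only [List.mem_cons, List.not_mem_nil, or_false] at hD
  rcases hD with rfl | rfl | rfl | rfl | rfl | rfl | rfl
  · exact ⟨_, linOK2_G2⟩
  · exact ⟨_, linOK2_B2⟩
  · exact ⟨_, linOK2_D4⟩
  · exact ⟨_, linOK2_F4⟩
  · exact ⟨_, linOK2_E6⟩
  · exact ⟨_, linOK2_E7⟩
  · exact ⟨_, linOK2_E8⟩

variable {D : ChevalleyDatum} {m : ℕ → ℕ → ℤ}

theorem list_sum_range_eq_sum' (n : ℕ) (f : ℕ → ℤ) :
    ((List.range n).map f).sum = ∑ k ∈ Finset.range n, f k := by
  induction n with
  | zero => simp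
  | succ n ih => rw [List.range_succ, List.map_append, List.sum_append, ih, Finset.sum_range_succ]; simp

theorem linOK2_simple (h : linOK2 D m = true) (i k : ℕ) (hi : i < D.rank) (hk : k < D.rank) :
    m (D.simple i) k = if k = i then 1 else 0 := by
  unfold linOK2 at h
  simp only [Bool.and_eq_true, List.all_eq_true, List.mem_range, beq_iff_eq] at h
  exact (h.1 i hi).1 k hk

theorem linOK2_cartan (h : linOK2 D m = true) (i s : ℕ) (hi : i < D.rank) (hs : s < D.nroots) :
    D.cartan i s = ∑ k ∈ Finset.range D.rank, m s k * D.cartan i (D.simple k) := by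
  unfold linOK2 at h
  simp only [Bool.and_eq_true, List.all_eq_true, List.mem_range, beq_iff_eq] at h
  rw [((h.1 i hi).2 s hs).1, list_sum_range_eq_sum']

theorem linOK2_refl (h : linOK2 D m = true) (i s k : ℕ) (hi : i < D.rank) (hs : s < D.nroots) (hk : k < D.rank) :
    m (D.reflectRoot i s) k = m s k - (if k = i then D.cartan i s else 0) := by
  unfold linOK2 at h
  simp only [Bool.and_eq_true, List.all_eq_true, List.mem_range, beq_iff_eq] at h
  exact ((h.1 i hi).2 s hs).2 k hk

theorem linOK2_pos (h : linOK2 D m = true) (s : ℕ) (hs : s < D.nroots) :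
    D.nroots / 2 ≤ s ↔ ∀ k < D.rank, 0 ≤ m s k := by
  unfold linOK2 at h
  simp only [Bool.and_eq_true, List.all_eq_true, List.mem_range, beq_iff_eq] at h
  have := h.2 s hs
  constructor
  · intro h1 k hk
    have h2 : decide (D.nroots / 2 ≤ s) = true := by simpa using h1
    rw [this, List.all_eq_true] at h2
    have := h2 k (List.mem_range.mpr hk)
    simpa using this
  · intro h1
    have h2 : ((List.range D.rank).all fun k => decide (0 ≤ m s k)) = true := by
      rw [List.all_eq_true]
      intro k hk
      simpa using h1 k (List.mem_range.mp hk)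
    rw [← this] at h2
    simpa using h2

section Lin

variable (C : ChevData.{u} D) (hlin : linOK2 D m = true)

include hlin in
/-- The action of a word on the coordinates is linear. -/
theorem crd_word2 (ws : List ℕ) (hws : ∀ i ∈ ws, i < D.rank) (s : ℕ) (hs : s < D.nroots) (k' : ℕ)
    (hk' : k' < D.rank) :
    m (wordRootF C.tabs ws s) k'
      = ∑ k ∈ Finset.range D.rank, m s k * m (wordRootF C.tabs ws (D.simple k)) k' := by
  induction ws generalizing k' with
  | nil =>
    show m s k' = ∑ k ∈ Finset.range D.rank, m s k * m (D.simple k) k'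
    rw [Finset.sum_eq_single k']
    · rw [linOK2_simple hlin k' k' hk' hk', if_pos rfl, mul_one]
    · intro k hk hne
      rw [linOK2_simple hlin k k' (Finset.mem_range.mp hk) hk', if_neg (Ne.symm hne), mul_zero]
    · intro h
      exact absurd (Finset.mem_range.mpr hk') h
  | cons i ws ih =>
    have hi : i < D.rank := hws i List.mem_cons_self
    have hws' : ∀ j ∈ ws, j < D.rank := fun j hj => hws j (List.mem_cons_of_mem _ hj)
    have hlt : ∀ r < D.nroots, wordRootF C.tabs ws r < D.nroots := fun r hr => wordRootF_lt C ws hws' r hr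
    have hstep : ∀ r < D.nroots, ∀ k'' < D.rank, m (wordRootF C.tabs (i :: ws) r) k''
        = m (wordRootF C.tabs ws r) k'' - (if k'' = i then
            ∑ j ∈ Finset.range D.rank, m (wordRootF C.tabs ws r) j * D.cartan i (D.simple j) else 0) := by
      intro r hr k'' hk''
      rw [wordRootF_cons]
      have e : tabRoot (C.tabs.getD i 0) (wordRootF C.tabs ws r) = D.reflectRoot i (wordRootF C.tabs ws r) :=
        (C.w_eq_reflectRoot i _ hi (hlt r hr)).symm
      rw [e, linOK2_refl hlin i _ k'' hi (hlt r hr) hk'', linOK2_cartan hlin i _ hi (hlt r hr)]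
    rw [hstep s hs k' hk', ih hws' k' hk']
    have e2 : ∀ j ∈ Finset.range D.rank, m (wordRootF C.tabs ws s) j
        = ∑ k ∈ Finset.range D.rank, m s k * m (wordRootF C.tabs ws (D.simple k)) j :=
      fun j hj => ih hws' j (Finset.mem_range.mp hj)
    have e3 : ∀ k ∈ Finset.range D.rank, m s k * m (wordRootF C.tabs (i :: ws) (D.simple k)) k'
        = m s k * m (wordRootF C.tabs ws (D.simple k)) k' - m s k * (if k' = i then
            ∑ j ∈ Finset.range D.rank, m (wordRootF C.tabs ws (D.simple k)) j * D.cartan i (D.simple j)
            else 0) := by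
      intro k hk
      rw [hstep (D.simple k) (C.simple_lt k (Finset.mem_range.mp hk)) k' hk', mul_sub]
    rw [Finset.sum_congr rfl e3, Finset.sum_sub_distrib]
    congr 1
    by_cases hki : k' = i
    · simp only [if_pos hki]
      rw [Finset.sum_congr rfl (fun j hj => by rw [e2 j hj, Finset.sum_mul]), Finset.sum_comm]
      apply Finset.sum_congr rfl
      intro k _
      rw [Finset.mul_sum]
      apply Finset.sum_congr rfl
      intro j _
      ring
    · simp only [if_neg hki, mul_zero, Finset.sum_const_zero]

include hlin in
/-- A word sending every fundamental root to a positive root sends every positive root to a positive root. -/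
theorem pos_of_simple_pos2 (ws : List ℕ) (hws : ∀ i ∈ ws, i < D.rank)
    (h : ∀ k < D.rank, D.nroots / 2 ≤ wordRootF C.tabs ws (D.simple k)) (s : ℕ) (hs : s < D.nroots)
    (hpos : D.nroots / 2 ≤ s) : D.nroots / 2 ≤ wordRootF C.tabs ws s := by
  rw [linOK2_pos hlin _ (wordRootF_lt C ws hws s hs)]
  intro k' hk'
  rw [crd_word2 C hlin ws hws s hs k' hk']
  apply Finset.sum_nonneg
  intro k hk
  have hk := Finset.mem_range.mp hk
  apply mul_nonneg
  · exact (linOK2_pos hlin s hs).mp hpos k hk
  · exact (linOK2_pos hlin _ (wordRootF_lt C ws hws _ (C.simple_lt k hk))).mp (h k hk) k' hk'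

end Lin

/-- All types: a word sending every fundamental root to a positive root sends every positive root to a positive
root. -/
theorem pos_of_simple_pos_all (hD : D ∈ [chevG2, chevB2, chevD4, chevF4, chevE6, chevE7, chevE8])
    (C : ChevData.{u} D) (ws : List ℕ) (hws : ∀ i ∈ ws, i < D.rank)
    (h : ∀ k < D.rank, D.nroots / 2 ≤ wordRootF C.tabs ws (D.simple k)) (s : ℕ) (hs : s < D.nroots)
    (hpos : D.nroots / 2 ≤ s) : D.nroots / 2 ≤ wordRootF C.tabs ws s := by
  obtain ⟨m, hm⟩ := exists_linOK2 D hD
  exact pos_of_simple_pos2 C hm ws hws h s hs hpos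

end Cfsg.Agent.Lib.Helper69.Aut
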