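/-
helper69: project OUT, module [K]: an element of the (finite) Chevalley group conjugating every fundamental root
subgroup into `U` lies in `B`.  (Bruhat normal form `x = b n u`, `u ∈ U_n^-`.)
-/
import Cfsg.Agent.Lib.Helper69.Aut.OutPos
import Cfsg.Agent.Lib.Helper69.Aut.Opp
import Cfsg.Agent.Lib.Helper18.Bruhat1
import Cfsg.Agent.Lib.Helper18.Order1
import Cfsg.Agent.Lib.Helper61.ChevJ.Depth
import Cfsg.Agent.S1049
import Cfsg.Agent.S1036

set_option autoImplicit false

namespace Cfsg.Agent.Lib.Helper69.Aut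

open Cfsg Cfsg.Lie Cfsg.Agent.Lib.Helper18 Cfsg.Agent.Lib.Helper91.ChevGen

universe u

variable {F : Type u} [Field F] {D : ChevalleyDatum}

theorem borel_le_normalizer_posUnipotent (hD : D ∈ [chevG2, chevB2, chevD4, chevF4, chevE6, chevE7, chevE8]) :
    D.borelSubgroup F ≤ Subgroup.normalizer (D.posUnipotent F : Set (GL D.Idx F)) := by
  unfold ChevalleyDatum.borelSubgroup
  exact sup_le Subgroup.le_normalizer (Cfsg.Agent.S1036.result D hD).1

/-- `N_G(U) = B`, elementwise. -/
theorem mem_borel_of_mem_normalizer (hD : D ∈ [chevG2, chevB2, chevD4, chevF4, chevE6, chevE7, chevE8])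
    (x : GL D.Idx F) (hx : x ∈ D.group F)
    (hN : x ∈ Subgroup.normalizer (D.posUnipotent F : Set (GL D.Idx F))) : x ∈ D.borelSubgroup F := by
  have h := Cfsg.Agent.S1049.result (F := F) D hD ∅ (fun j hj => absurd hj (Set.notMem_empty j))
  have e1 : D.unipotentRadical F ∅ = D.posUnipotent F := by
    unfold ChevalleyDatum.unipotentRadical ChevalleyDatum.posUnipotent
    congr 1
    ext g
    constructor
    · rintro ⟨r, t, hr, -, hg⟩
      exact ⟨r, t, hr, hg⟩
    · rintro ⟨r, t, hr, hg⟩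
      exact ⟨r, t, hr, Cfsg.Agent.Lib.Helper61.ChevJ.not_inRootSub_empty hD r hr, hg⟩
  have e2 : D.parabolicSubgroup F ∅ = D.borelSubgroup F := by
    unfold ChevalleyDatum.parabolicSubgroup
    have : {g : GL D.Idx F | ∃ j ∈ (∅ : Set ℕ), j < D.rank ∧ (g : Matrix D.Idx D.Idx F) = D.nMat F (D.simple j) 1}
        = ∅ := by
      ext g
      simp
    rw [this, Subgroup.closure_empty, sup_bot_eq]
  rw [e1, e2] at h
  rw [← h]
  exact Subgroup.mem_inf.mpr ⟨hN, hx⟩

/-- [O-K] -/
theorem mem_borel_of_conj_simple [Finite F] (hD : D ∈ [chevG2, chevB2, chevD4, chevF4, chevE6, chevE7, chevE8])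
    (x : GL D.Idx F) (hx : x ∈ D.group F)
    (h : ∀ (i : Fin D.rank) (t : F), x * xG hD (D.simple i) t * x⁻¹ ∈ D.posUnipotent F) :
    x ∈ D.borelSubgroup F := by
  obtain ⟨C⟩ := nonempty_chevData.{u} D hD
  obtain ⟨L⟩ := nonempty_levelData D hD
  have hsign := signOK_of_mem D hD
  obtain ⟨hBG, hNG, -⟩ := Cfsg.Agent.S1043.result (F := F) D hD
  have hUV : D.posUnipotent F ⊓ D.negUnipotent F = ⊥ := by
    apply le_antisymm _ bot_le
    rw [← (Cfsg.Agent.S1037.result (F := F) D hD).1]
    exact inf_le_inf_right _ (by unfold ChevalleyDatum.borelSubgroup; exact le_sup_left)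
  obtain ⟨b, hb, n, hn, u, hu, rfl⟩ := exists_bruhat_form hD C L x hx
  have huU : u ∈ D.posUnipotent F := closure_UnegSet_le D n hu
  have hBN := borel_le_normalizer_posUnipotent (F := F) hD
  -- step 2
  have h2 : ∀ (i : Fin D.rank) (t : F), n * (u * xG hD (D.simple i) t * u⁻¹) * n⁻¹ ∈ D.posUnipotent F := by
    intro i t
    have h1 := h i t
    have hbN := hBN (inv_mem hb)
    have h3 := (Subgroup.mem_normalizer_iff.mp hbN _).mp h1
    have e : b⁻¹ * (b * n * u * xG hD (D.simple i) t * (b * n * u)⁻¹) * b⁻¹⁻¹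
        = n * (u * xG hD (D.simple i) t * u⁻¹) * n⁻¹ := by group
    rwa [e] at h3
  -- step 3: no fundamental root subgroup goes to `V`
  have h3 : ∀ i : Fin D.rank,
      ¬ (D.rootSubgroup F (D.simple i)).map (MulAut.conj n).toMonoidHom ≤ D.negUnipotent F := by
    intro i hle
    have hpos : D.IsPosRoot (D.simple i) :=
      (isPosRoot_iff hD _).mpr ⟨C.simple_lt i i.isLt, C.half_le_simple i i.isLt⟩
    have hz : xG hD (D.simple i) (1 : F) ∈ Subgroup.closure (UnegSet D F n) :=
      Subgroup.subset_closure ⟨D.simple i, 1, hpos, hle, rfl⟩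
    have hg : u * xG hD (D.simple i) (1 : F) * u⁻¹ ∈ Subgroup.closure (UnegSet D F n) :=
      mul_mem (mul_mem hu hz) (inv_mem hu)
    have hV := conj_mem_negUnipotent hD n _ hg
    have hU := h2 i 1
    have h1 : n * (u * xG hD (D.simple i) (1 : F) * u⁻¹) * n⁻¹ = 1 := by
      have : n * (u * xG hD (D.simple i) (1 : F) * u⁻¹) * n⁻¹ ∈ D.posUnipotent F ⊓ D.negUnipotent F :=
        Subgroup.mem_inf.mpr ⟨hU, hV⟩
      rw [hUV, Subgroup.mem_bot] at this
      exact this
    have h4 : xG hD (D.simple i) (1 : F) = 1 := by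
      have e : xG hD (D.simple i) (1 : F)
          = u⁻¹ * (n⁻¹ * (n * (u * xG hD (D.simple i) (1 : F) * u⁻¹) * n⁻¹) * n) * u := by group
      rw [e, h1]
      group
    have h5 : (1 : F) = 0 := by
      apply xG_injective hD _ (C.simple_lt i i.isLt)
      rw [h4, xG_zero]
    exact one_ne_zero h5
  -- step 4: `n U n⁻¹ ≤ U`
  obtain ⟨ws, h₀, hws, hh₀, rfl⟩ := isWordH_of_mem_monomial hD C n hn
  have hsimple : ∀ k < D.rank, D.nroots / 2 ≤ wordRootF C.tabs ws (D.simple k) := by
    intro k hk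
    by_contra hlt
    push Not at hlt
    obtain ⟨t', ht', he⟩ := word_conj_xG hD C ws hws h₀ hh₀ (D.simple k) (C.simple_lt k hk) (1 : F)
    have hlt' := wordRootF_lt C ws hws _ (C.simple_lt k hk)
    have hneg : D.IsNegRoot (wordRootF C.tabs ws (D.simple k)) := isNegRoot_of_lt D hsign _ hlt' hlt
    apply h3 ⟨k, hk⟩
    rintro g ⟨y, hy, rfl⟩
    obtain ⟨s, rfl⟩ := (mem_rootSubgroup_iff hD _ y).mp hy
    obtain ⟨s', -, he'⟩ := word_conj_xG hD C ws hws h₀ hh₀ (D.simple k) (C.simple_lt k hk) s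
    show nW hD C ws * h₀ * xG hD (D.simple k) s * (nW hD C ws * h₀)⁻¹ ∈ D.negUnipotent F
    rw [he']
    exact xG_mem_negUnipotent hD _ s' hneg
  have hall : ∀ g ∈ D.posUnipotent F, nW hD C ws * h₀ * g * (nW hD C ws * h₀)⁻¹ ∈ D.posUnipotent F := by
    have hle : D.posUnipotent F ≤ (D.posUnipotent F).comap (MulAut.conj (nW hD C ws * h₀)).toMonoidHom := by
      conv_lhs => unfold ChevalleyDatum.posUnipotent
      rw [Subgroup.closure_le]
      rintro g ⟨r, t, hr, hg⟩
      have hg' : g = xG hD r t := Units.ext hg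
      have hr' := (isPosRoot_iff hD r).mp hr
      obtain ⟨t', -, he⟩ := word_conj_xG hD C ws hws h₀ hh₀ r hr'.1 t
      show nW hD C ws * h₀ * g * (nW hD C ws * h₀)⁻¹ ∈ D.posUnipotent F
      rw [hg', he]
      apply xG_mem_posUnipotent hD
      exact (isPosRoot_iff hD _).mpr ⟨wordRootF_lt C ws hws r hr'.1,
        pos_of_simple_pos_all hD C ws hws hsimple r hr'.1 hr'.2⟩
    intro g hg
    exact hle hg
  -- step 5: `n` normalises `U`
  have hnorm : nW hD C ws * h₀ ∈ Subgroup.normalizer (D.posUnipotent F : Set (GL D.Idx F)) := by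
    rw [Subgroup.mem_normalizer_iff]
    intro g
    constructor
    · exact hall g
    · intro hg
      let φ : ↥(D.posUnipotent F) → ↥(D.posUnipotent F) := fun y =>
        ⟨nW hD C ws * h₀ * y.1 * (nW hD C ws * h₀)⁻¹, hall y.1 y.2⟩
      have hinj : Function.Injective φ := by
        intro y y' hyy
        have := congrArg Subtype.val hyy
        simp only [φ] at this
        apply Subtype.ext
        have e := mul_right_cancel this
        exact mul_left_cancel e
      obtain ⟨y, hy⟩ := (Finite.injective_iff_surjective.mp hinj) ⟨_, hg⟩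
      have := congrArg Subtype.val hy
      simp only [φ] at this
      have e := mul_right_cancel this
      have e2 := mul_left_cancel e
      rw [← e2]
      exact y.2
  have hnB : nW hD C ws * h₀ ∈ D.borelSubgroup F := mem_borel_of_mem_normalizer hD _ (hNG hn) hnorm
  exact mul_mem (mul_mem hb hnB) (by unfold ChevalleyDatum.borelSubgroup; exact Subgroup.mem_sup_left huU)

end Cfsg.Agent.Lib.Helper69.Aut
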