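/-
helper69: project OUT, module [NORM]: an automorphism (of the finite Chevalley group) with a root map fixes `U` and `V`.
-/
import Cfsg.Agent.Lib.Helper69.Aut.Asm2
import Cfsg.Agent.Lib.Helper69.Aut.OutK

set_option autoImplicit false

namespace Cfsg.Agent.Lib.Helper69.Aut

open Cfsg Cfsg.Lie Cfsg.Agent.Lib.Helper18 Cfsg.Agent.Lib.Helper91.ChevGen

universe u

variable {F : Type u} [Field F] {D : ChevalleyDatum}

theorem isPosRoot_simple (hD : D ∈ [chevG2, chevB2, chevD4, chevF4, chevE6, chevE7, chevE8]) (i : ℕ)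
    (hi : i < D.rank) : D.IsPosRoot (D.simple i) := by
  obtain ⟨C⟩ := nonempty_chevData.{0} D hD
  exact (isPosRoot_iff hD _).mpr ⟨C.simple_lt i hi, C.half_le_simple i hi⟩

theorem isNegRoot_neg_simple (hD : D ∈ [chevG2, chevB2, chevD4, chevF4, chevE6, chevE7, chevE8]) (i : ℕ)
    (hi : i < D.rank) : D.IsNegRoot (D.neg (D.simple i)) := by
  obtain ⟨C⟩ := nonempty_chevData.{0} D hD
  have hp := C.simple_lt i hi
  have hge := C.half_le_simple i hi
  have hn := C.nroots_eq
  have hev := C.heven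
  have hnegp : D.neg (D.simple i) = C.T.neg (D.simple i) := C.neg_eq _ hp
  apply isNegRoot_of_lt D (signOK_of_mem D hD) _ (neg_lt_nroots D hD _ hp)
  rw [hnegp]
  unfold FastDatum.neg
  omega

/-- The image under a conjugate automorphism. -/
theorem img_of_conj (θ θ' : ↥(D.group F) ≃* ↥(D.group F)) (x : ↥(D.group F))
    (hx : ∀ y, θ y = x * θ' y * x⁻¹) (K : Subgroup (GL D.Idx F)) :
    img θ K = (img θ' K).map (MulAut.conj (x : GL D.Idx F)).toMonoidHom := by
  ext g
  rw [mem_img, Subgroup.mem_map]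
  constructor
  · rintro ⟨k, hk, rfl⟩
    refine ⟨((θ' k : ↥(D.group F)) : GL D.Idx F), (mem_img θ' K _).mpr ⟨k, hk, rfl⟩, ?_⟩
    rw [hx k]
    rfl
  · rintro ⟨y, hy, rfl⟩
    obtain ⟨k, hk, rfl⟩ := (mem_img θ' K y).mp hy
    refine ⟨k, hk, ?_⟩
    rw [hx k]
    rfl

/-- [O-NORM] -/
theorem isNormalized_of_hasRootMap [Finite F] (hD : D ∈ [chevG2, chevB2, chevD4, chevF4, chevE6, chevE7, chevE8])
    (θ : ↥(D.group F) ≃* ↥(D.group F)) (h : HasRootMap hD θ) : IsNormalized θ := by
  obtain ⟨π, f, g, hf, hg⟩ := h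
  obtain ⟨x, θ', hx, hθ'N⟩ := exists_normalized hD θ
  obtain ⟨π', f', g', hf', hg'⟩ := hasRootMap_of_normalized hD θ' hθ'N
  have hsl : ∀ i : Fin D.rank, D.simple i < D.nroots := fun i => simple_lt' hD i i.isLt
  have hnl : ∀ i : Fin D.rank, D.neg (D.simple i) < D.nroots := fun i => neg_lt' hD _ (hsl i)
  have hUG := posUnipotent_le_group (F := F) hD
  have hVG := negUnipotent_le_group (F := F) hD
  -- surjectivity of the parameter maps of `θ'`
  have hf's : ∀ i, Function.Surjective (f' i) := by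
    intro i
    apply Finite.injective_iff_surjective.mp
    intro a b hab
    apply xS_injective hD _ (hsl i)
    apply θ'.injective
    rw [hf', hf', hab]
  have hg's : ∀ i, Function.Surjective (g' i) := by
    intro i
    apply Finite.injective_iff_surjective.mp
    intro a b hab
    apply xS_injective hD _ (hnl i)
    apply θ'.injective
    rw [hg', hg', hab]
  -- `x` conjugates the fundamental root elements into `U`, their negatives into `V`
  have hxU : ∀ (k : Fin D.rank) (s : F),
      (x : GL D.Idx F) * xG hD (D.simple k) s * (x : GL D.Idx F)⁻¹ ∈ D.posUnipotent F := by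
    intro k s
    obtain ⟨t, ht⟩ := hf's (π'.symm k) s
    have e : x * xS hD (D.simple k) s * x⁻¹ = xS hD (D.simple (π (π'.symm k))) (f (π'.symm k) t) := by
      rw [← hf, hx, hf', Equiv.apply_symm_apply, ht]
    have e2 := congrArg (fun y : ↥(D.group F) => (y : GL D.Idx F)) e
    simp only [Subgroup.coe_mul, Subgroup.coe_inv, coe_xS] at e2
    rw [e2]
    exact xG_mem_posUnipotent hD _ _ (isPosRoot_simple hD _ (π (π'.symm k)).isLt)
  have hxV : ∀ (k : Fin D.rank) (s : F),
      (x : GL D.Idx F) * xG hD (D.neg (D.simple k)) s * (x : GL D.Idx F)⁻¹ ∈ D.negUnipotent F := by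
    intro k s
    obtain ⟨t, ht⟩ := hg's (π'.symm k) s
    have e : x * xS hD (D.neg (D.simple k)) s * x⁻¹
        = xS hD (D.neg (D.simple (π (π'.symm k)))) (g (π'.symm k) t) := by
      rw [← hg, hx, hg', Equiv.apply_symm_apply, ht]
    have e2 := congrArg (fun y : ↥(D.group F) => (y : GL D.Idx F)) e
    simp only [Subgroup.coe_mul, Subgroup.coe_inv, coe_xS] at e2
    rw [e2]
    exact xG_mem_negUnipotent hD _ _ (isNegRoot_neg_simple hD _ (π (π'.symm k)).isLt)
  have hxB : (x : GL D.Idx F) ∈ D.borelSubgroup F := mem_borel_of_conj_simple hD _ x.2 hxU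
  constructor
  · rw [img_of_conj θ θ' x hx, hθ'N.1]
    exact map_conj_posUnipotent_of_borel hD _ hxB
  · rw [img_of_conj θ θ' x hx, hθ'N.2]
    obtain ⟨n, hnN, hnU, hnV, star, hstar⟩ := exists_longest_conj (F := F) hD
    have hnG : n ∈ D.group F := (Cfsg.Agent.S1043.result D hD).2.1 hnN
    -- `z = n x n⁻¹` conjugates the fundamental root elements into `U`
    have hzU : ∀ (j : Fin D.rank) (s : F),
        (n * (x : GL D.Idx F) * n⁻¹) * xG hD (D.simple j) s * (n * (x : GL D.Idx F) * n⁻¹)⁻¹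
          ∈ D.posUnipotent F := by
      intro j s
      have h1 : xG hD (D.simple j) s ∈
          (D.rootSubgroup F (D.neg (D.simple (star.symm j)))).map (MulAut.conj n).toMonoidHom := by
        rw [hstar, Equiv.apply_symm_apply]
        exact (mem_rootSubgroup_iff hD _ _).mpr ⟨s, rfl⟩
      obtain ⟨y, hy, hys⟩ := h1
      obtain ⟨s', rfl⟩ := (mem_rootSubgroup_iff hD _ y).mp hy
      have hys' : n * xG hD (D.neg (D.simple (star.symm j))) s' * n⁻¹ = xG hD (D.simple j) s := hys
      rw [← hys']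
      have e : (n * (x : GL D.Idx F) * n⁻¹) * (n * xG hD (D.neg (D.simple (star.symm j))) s' * n⁻¹)
          * (n * (x : GL D.Idx F) * n⁻¹)⁻¹
          = n * ((x : GL D.Idx F) * xG hD (D.neg (D.simple (star.symm j))) s' * (x : GL D.Idx F)⁻¹) * n⁻¹ := by
        group
      rw [e, ← hnV]
      exact Subgroup.mem_map_of_mem _ (hxV _ _)
    have hzB : n * (x : GL D.Idx F) * n⁻¹ ∈ D.borelSubgroup F :=
      mem_borel_of_conj_simple hD _ (mul_mem (mul_mem hnG x.2) (inv_mem hnG)) hzU
    have hz := map_conj_posUnipotent_of_borel hD _ hzB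
    -- transfer to `V`
    have e1 : (D.negUnipotent F).map (MulAut.conj (n * (x : GL D.Idx F))).toMonoidHom
        = (D.negUnipotent F).map (MulAut.conj n).toMonoidHom := by
      have : n * (x : GL D.Idx F) = (n * (x : GL D.Idx F) * n⁻¹) * n := by group
      rw [this, map_conj_mul', hnV, hz]
    rw [map_conj_mul'] at e1
    exact Subgroup.map_injective (MulAut.conj n).injective e1

end Cfsg.Agent.Lib.Helper69.Aut
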