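/-
helper69: project OUT (S2121-S2125), the modules contributed by the team, restated in this namespace.
[NF-UNIQ] [NF-INJ] [NF-SURJ] [QUOT] helper93, [INN] helper45 (on helper91's [INN-H]),
[PI-G2] [PI-F4] [PI-E6] [PI-E7] [PI-E8] helper91, [POS] [K] [NORM] helper69.
-/
import Cfsg.Agent.Lib.Helper69.Aut.OutDefs
import Cfsg.Agent.Lib.Helper69.Aut.Asm2
import Cfsg.Agent.Lib.Helper69.Aut.OutNorm
import Cfsg.Agent.Lib.Helper93.OutNF
import Cfsg.Agent.Lib.Helper93.OutQuot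
import Cfsg.Agent.Lib.Helper45.OutInn
import Cfsg.Agent.Lib.Helper91.OutPiG2
import Cfsg.Agent.Lib.Helper91.OutPiF4
import Cfsg.Agent.Lib.Helper91.OutPiE6
import Cfsg.Agent.Lib.Helper91.OutPiE7
import Cfsg.Agent.Lib.Helper91.OutPiE8

set_option autoImplicit false

namespace Cfsg.Agent.Lib.Helper69.Aut

open Cfsg Cfsg.Lie Cfsg.Agent.Lib.Helper18 Cfsg.Agent.Lib.Helper91.ChevGen

universe u

variable {F : Type u} [Field F] {D : ChevalleyDatum}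

/-- [O-NF-UNIQ] -/
theorem nf_unique [Finite F] (hD : D ∈ [chevG2, chevB2, chevD4, chevF4, chevE6, chevE7, chevE8])
    (θ : ↥(D.group F) ≃* ↥(D.group F)) (π π' : Equiv.Perm (Fin D.rank)) (c c' : Fin D.rank → Fˣ)
    (τ τ' : F ≃+* F) (h : NF hD θ π c τ) (h' : NF hD θ π' c' τ') : π = π' ∧ c = c' ∧ τ = τ' :=
  Cfsg.Agent.Lib.Helper93.Aut.nf_unique hD θ π π' c c' τ τ' h h'

/-- [O-NF-INJ] -/
theorem eq_of_nf (hD : D ∈ [chevG2, chevB2, chevD4, chevF4, chevE6, chevE7, chevE8])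
    (θ θ' : ↥(D.group F) ≃* ↥(D.group F)) (π : Equiv.Perm (Fin D.rank)) (c : Fin D.rank → Fˣ)
    (τ : F ≃+* F) (h : NF hD θ π c τ) (h' : NF hD θ' π c τ) : θ = θ' :=
  Cfsg.Agent.Lib.Helper93.Aut.eq_of_nf hD θ θ' π c τ h h'

/-- [O-NF-SURJ] -/
theorem exists_of_nf (hD : D ∈ [chevG2, chevB2, chevD4, chevF4, chevE6, chevE7, chevE8])
    (π : Equiv.Perm (Fin D.rank)) (hπ : π ∈ RealSym hD F) (c : Fin D.rank → Fˣ) (τ : F ≃+* F) :
    ∃ θ : ↥(D.group F) ≃* ↥(D.group F), NF hD θ π c τ :=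
  Cfsg.Agent.Lib.Helper93.Aut.exists_of_nf hD π hπ c τ

/-- [O-QUOT] -/
theorem card_quot_mul_card_inf {A : Type*} [Group A] [Finite A] (N K : Subgroup A) [N.Normal]
    (h : ∀ a : A, ∃ n ∈ N, ∃ k ∈ K, a = n * k) :
    Nat.card (A ⧸ N) * Nat.card ↥(K ⊓ N) = Nat.card ↥K :=
  Cfsg.Agent.Lib.Helper93.Aut.card_quot_mul_card_inf N K h

/-- [O-INN] -/
theorem card_Nrm_inf_Inn [Finite F] (hD : D ∈ [chevG2, chevB2, chevD4, chevF4, chevE6, chevE7, chevE8]) :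
    Nat.card ↥(Nrm hD F ⊓ Cfsg.Inn ↥(D.group F)) = Nat.card ↥(D.diagonalSubgroup F) :=
  Cfsg.Agent.Lib.Helper45.Aut.card_Nrm_inf_Inn hD

/-! ## per type -/

/-- [O-PI-E8] -/
theorem card_realSym_E8 [Finite F] (hD : chevE8 ∈ [chevG2, chevB2, chevD4, chevF4, chevE6, chevE7, chevE8]) :
    Nat.card ↥(RealSym hD F) = 1 :=
  Cfsg.Agent.Lib.Helper91.Aut.card_realSym_E8 hD

/-- [O-PI-E7] -/
theorem card_realSym_E7 [Finite F] (hD : chevE7 ∈ [chevG2, chevB2, chevD4, chevF4, chevE6, chevE7, chevE8]) :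
    Nat.card ↥(RealSym hD F) = 1 :=
  Cfsg.Agent.Lib.Helper91.Aut.card_realSym_E7 hD

/-- [O-PI-E6] -/
theorem card_realSym_E6 [Finite F] (hD : chevE6 ∈ [chevG2, chevB2, chevD4, chevF4, chevE6, chevE7, chevE8]) :
    Nat.card ↥(RealSym hD F) = 2 :=
  Cfsg.Agent.Lib.Helper91.Aut.card_realSym_E6 hD

/-- [O-PI-F4] -/
theorem card_realSym_F4 [Fintype F] (p : ℕ) [Fact p.Prime] [CharP F p]
    (hD : chevF4 ∈ [chevG2, chevB2, chevD4, chevF4, chevE6, chevE7, chevE8]) :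
    Nat.card ↥(RealSym hD F) = Nat.gcd 2 p :=
  Cfsg.Agent.Lib.Helper91.Aut.card_realSym_F4 p hD

/-- [O-PI-G2] -/
theorem card_realSym_G2 [Fintype F] (p : ℕ) [Fact p.Prime] [CharP F p] (hq : 3 ≤ Fintype.card F)
    (hD : chevG2 ∈ [chevG2, chevB2, chevD4, chevF4, chevE6, chevE7, chevE8]) :
    Nat.card ↥(RealSym hD F) = if p = 3 then 2 else 1 :=
  Cfsg.Agent.Lib.Helper91.Aut.card_realSym_G2 p hq hD

end Cfsg.Agent.Lib.Helper69.Aut
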