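/-
helper69: project OUT, assembly: the order of the outer automorphism group of a Chevalley group of type
G2, B2, D4, F4, E6, E7, E8 over a finite field from the number of realised diagram symmetries.
-/
import Cfsg.Agent.Lib.Helper69.Aut.OutMods
import Cfsg.Agent.Lib.Helper36.AutO.RingAutCard

set_option autoImplicit false

namespace Cfsg.Agent.Lib.Helper69.Aut

open Cfsg Cfsg.Lie Cfsg.Agent.Lib.Helper18 Cfsg.Agent.Lib.Helper91.ChevGen

universe u

variable {F : Type u} [Field F] {D : ChevalleyDatum}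

/-- The normalised automorphisms are in bijection with the triples (realised symmetry, constants, field
automorphism). -/
theorem card_Nrm [Fintype F] (hD : D ∈ [chevG2, chevB2, chevD4, chevF4, chevE6, chevE7, chevE8])
    (p f : ℕ) [Fact p.Prime] (hF : Fintype.card F = p ^ f) :
    Nat.card ↥(Nrm hD F) = Nat.card ↥(RealSym hD F) * (Fintype.card F - 1) ^ D.rank * f := by
  classical
  have hex : ∀ θ : ↥(Nrm hD F), ∃ x : ↥(RealSym hD F) × (Fin D.rank → Fˣ) × (F ≃+* F),
      NF hD θ.1 x.1.1 x.2.1 x.2.2 := by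
    intro θ
    obtain ⟨π, c, τ, hπ, hnf⟩ := exists_nf hD θ.1 (hasRootMap_of_normalized hD θ.1 θ.2)
    exact ⟨⟨⟨π, hπ⟩, c, τ⟩, hnf⟩
  choose Ψ hΨ using hex
  have hbij : Function.Bijective Ψ := by
    constructor
    · intro θ θ' hθ
      have h1 := hΨ θ
      have h2 := hΨ θ'
      rw [hθ] at h1
      exact Subtype.ext (eq_of_nf hD _ _ _ _ _ h1 h2)
    · rintro ⟨⟨π, hπ⟩, c, τ⟩
      obtain ⟨θ, hθ⟩ := exists_of_nf hD π hπ c τ
      have hN : θ ∈ Nrm hD F := isNormalized_of_hasRootMap hD θ (hasRootMap_of_nf hD θ π c τ hθ)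
      refine ⟨⟨θ, hN⟩, ?_⟩
      obtain ⟨e1, e2, e3⟩ := nf_unique hD θ _ _ _ _ _ _ (hΨ ⟨θ, hN⟩) hθ
      apply Prod.ext
      · exact Subtype.ext e1
      · exact Prod.ext e2 e3
  have hf : 1 ≤ f := by
    rcases Nat.eq_zero_or_pos f with rfl | h
    · rw [pow_zero] at hF
      have := Fintype.one_lt_card (α := F)
      omega
    · exact h
  rw [Nat.card_congr (Equiv.ofBijective Ψ hbij), Nat.card_prod, Nat.card_prod, Nat.card_pi]
  have h1 : Nat.card Fˣ = Fintype.card F - 1 := by
    rw [Nat.card_eq_fintype_card, Fintype.card_units]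
  have h2 : Nat.card (F ≃+* F) = f := Cfsg.Agent.Lib.Helper36.AutO.card_ringAut_eq hf hF
  rw [h2]
  simp only [h1, Finset.prod_const, Finset.card_univ, Fintype.card_fin]
  ring

/-- Every automorphism is inner times normalised. -/
theorem exists_inn_mul_nrm [Finite F] (hD : D ∈ [chevG2, chevB2, chevD4, chevF4, chevE6, chevE7, chevE8])
    (a : MulAut ↥(D.group F)) : ∃ n ∈ Cfsg.Inn ↥(D.group F), ∃ k ∈ Nrm hD F, a = n * k := by
  obtain ⟨x, θ', h1, h2⟩ := exists_normalized hD a
  refine ⟨MulAut.conj x, ⟨x, rfl⟩, θ', h2, ?_⟩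
  ext y
  rw [h1 y]
  rfl

instance finite_mulAut_group [Finite F] : Finite (MulAut ↥(D.group F)) :=
  Finite.of_injective (fun a : MulAut ↥(D.group F) => (a : ↥(D.group F) → ↥(D.group F)))
    (fun a b h => MulEquiv.ext (congrFun h))

/-- `|Out| · |H| = |RealSym| · (q - 1)^rank · f`. -/
theorem card_out_mul [Fintype F] (hD : D ∈ [chevG2, chevB2, chevD4, chevF4, chevE6, chevE7, chevE8])
    (p f : ℕ) [Fact p.Prime] (hF : Fintype.card F = p ^ f) :
    Nat.card (Cfsg.Out ↥(D.group F)) * Nat.card ↥(D.diagonalSubgroup F) =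
      Nat.card ↥(RealSym hD F) * (Fintype.card F - 1) ^ D.rank * f := by
  rw [← card_Nrm hD p f hF, ← card_Nrm_inf_Inn hD]
  exact card_quot_mul_card_inf (Cfsg.Inn ↥(D.group F)) (Nrm hD F) (exists_inn_mul_nrm hD)

/-- The order of the outer automorphism group from `d · |H| = (q - 1)^rank` and the number `R` of realised
diagram symmetries. -/
theorem card_out_formula [Fintype F] (hD : D ∈ [chevG2, chevB2, chevD4, chevF4, chevE6, chevE7, chevE8])
    (p f : ℕ) [Fact p.Prime] (hF : Fintype.card F = p ^ f) (d R : ℕ)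
    (hd : d * Nat.card ↥(D.diagonalSubgroup F) = (Fintype.card F - 1) ^ D.rank)
    (hR : Nat.card ↥(RealSym hD F) = R) :
    Nat.card (Cfsg.Out ↥(D.group F)) = R * d * f := by
  have h := card_out_mul hD p f hF
  rw [hR, ← hd] at h
  have hpos : 0 < Nat.card ↥(D.diagonalSubgroup F) := Nat.card_pos
  have h2 : Nat.card (Cfsg.Out ↥(D.group F)) * Nat.card ↥(D.diagonalSubgroup F) =
      (R * d * f) * Nat.card ↥(D.diagonalSubgroup F) := by
    rw [h]; ring
  exact Nat.eq_of_mul_eq_mul_right hpos h2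

end Cfsg.Agent.Lib.Helper69.Aut
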