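/-
helper69: project STR (S2159: structure of the outer automorphism group of a Chevalley group of type
G2, B2, D4, F4, E6, E7, E8 over a finite field), shared definition: `RootPerm hD θ π` = the automorphism `θ` carries
the fundamental root elements and their negatives to such, along the permutation `π` of the nodes.
-/
import Cfsg.Agent.Lib.Helper69.Aut.OutDefs

set_option autoImplicit false

namespace Cfsg.Agent.Lib.Helper69.Aut

open Cfsg Cfsg.Lie Cfsg.Agent.Lib.Helper18 Cfsg.Agent.Lib.Helper91.ChevGen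

universe u

variable {F : Type u} [Field F] {D : ChevalleyDatum}

/-- `θ` has a root map along the permutation `π`. -/
def RootPerm (hD : D ∈ [chevG2, chevB2, chevD4, chevF4, chevE6, chevE7, chevE8])
    (θ : ↥(D.group F) ≃* ↥(D.group F)) (π : Equiv.Perm (Fin D.rank)) : Prop :=
  ∃ (f g : Fin D.rank → F → F),
    (∀ (i : Fin D.rank) (t : F), θ (xS hD (D.simple i) t) = xS hD (D.simple (π i)) (f i t)) ∧
    (∀ (i : Fin D.rank) (t : F), θ (xS hD (D.neg (D.simple i)) t) = xS hD (D.neg (D.simple (π i))) (g i t))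

theorem hasRootMap_iff (hD : D ∈ [chevG2, chevB2, chevD4, chevF4, chevE6, chevE7, chevE8])
    (θ : ↥(D.group F) ≃* ↥(D.group F)) : HasRootMap hD θ ↔ ∃ π, RootPerm hD θ π := Iff.rfl

theorem rootPerm_of_nf (hD : D ∈ [chevG2, chevB2, chevD4, chevF4, chevE6, chevE7, chevE8])
    (θ : ↥(D.group F) ≃* ↥(D.group F)) (π : Equiv.Perm (Fin D.rank)) (c : Fin D.rank → Fˣ) (τ : F ≃+* F)
    (h : NF hD θ π c τ) : RootPerm hD θ π :=
  ⟨fun i t => (c (π i) : F) * (τ t) ^ D.graphExp (ringChar F) i (π i),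
    fun i t => ((c (π i))⁻¹ : Fˣ) * (τ t) ^ D.graphExp (ringChar F) i (π i),
    fun i t => (h i t).1, fun i t => (h i t).2⟩

theorem rootPerm_one (hD : D ∈ [chevG2, chevB2, chevD4, chevF4, chevE6, chevE7, chevE8]) :
    RootPerm hD (1 : MulAut ↥(D.group F)) 1 :=
  ⟨fun _ t => t, fun _ t => t, fun _ _ => rfl, fun _ _ => rfl⟩

theorem rootPerm_mul (hD : D ∈ [chevG2, chevB2, chevD4, chevF4, chevE6, chevE7, chevE8])
    {θ θ' : MulAut ↥(D.group F)} {π π' : Equiv.Perm (Fin D.rank)} (h : RootPerm hD θ π)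
    (h' : RootPerm hD θ' π') : RootPerm hD (θ * θ') (π * π') := by
  obtain ⟨f, g, hf, hg⟩ := h
  obtain ⟨f', g', hf', hg'⟩ := h'
  refine ⟨fun i t => f (π' i) (f' i t), fun i t => g (π' i) (g' i t), ?_, ?_⟩
  · intro i t
    show θ (θ' _) = _
    rw [hf', hf]
    rfl
  · intro i t
    show θ (θ' _) = _
    rw [hg', hg]
    rfl

end Cfsg.Agent.Lib.Helper69.Aut
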