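/-
helper69: project STR (S2159), the modules contributed by the team, restated in this namespace.
[RPU] [DNF] [FNF] [DEC] [DCOMM] [FCYC] helper89, [CONJD] helper39 (compiled by helper89), [RANGE] helper9, [PI] helper69.
-/
import Cfsg.Agent.Lib.Helper69.Aut.StrDefs
import Cfsg.Agent.Lib.Helper69.Aut.OutMods
import Cfsg.Agent.Lib.Helper89.StrRPU
import Cfsg.Agent.Lib.Helper89.StrDNF
import Cfsg.Agent.Lib.Helper89.StrDCOMM
import Cfsg.Agent.Lib.Helper89.StrFCYC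
import Cfsg.Agent.Lib.Helper39.StrConjD
import Cfsg.Agent.Lib.Helper9.StrRange

set_option autoImplicit false

namespace Cfsg.Agent.Lib.Helper69.Aut

open Cfsg Cfsg.Lie Cfsg.Agent.Lib.Helper18 Cfsg.Agent.Lib.Helper91.ChevGen

universe u

variable {F : Type u} [Field F] {D : ChevalleyDatum}

/-- [STR-RPU] -/
theorem rootPerm_unique (hD : D ∈ [chevG2, chevB2, chevD4, chevF4, chevE6, chevE7, chevE8])
    (θ : ↥(D.group F) ≃* ↥(D.group F)) (π π' : Equiv.Perm (Fin D.rank)) (h : RootPerm hD θ π)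
    (h' : RootPerm hD θ π') : π = π' :=
  Cfsg.Agent.Lib.Helper89.Aut.rootPerm_unique hD θ π π' h h'

/-- [STR-DNF] -/
theorem diag_nf (hD : D ∈ [chevG2, chevB2, chevD4, chevF4, chevE6, chevE7, chevE8])
    (d : ↥(D.group F) ≃* ↥(D.group F)) (hd : D.IsDiagonalAut d) : ∃ c : Fin D.rank → Fˣ, NF hD d 1 c (RingEquiv.refl F) :=
  Cfsg.Agent.Lib.Helper89.Aut.diag_nf hD d hd

/-- [STR-FNF] -/
theorem field_nf (hD : D ∈ [chevG2, chevB2, chevD4, chevF4, chevE6, chevE7, chevE8])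
    (φ : ↥(D.group F) ≃* ↥(D.group F)) (hφ : D.IsFieldAut φ) : ∃ τ : F ≃+* F, NF hD φ 1 (fun _ => 1) τ :=
  Cfsg.Agent.Lib.Helper89.Aut.field_nf hD φ hφ

/-- [STR-DEC] -/
theorem nf_one_decomp (hD : D ∈ [chevG2, chevB2, chevD4, chevF4, chevE6, chevE7, chevE8])
    (θ : MulAut ↥(D.group F)) (c : Fin D.rank → Fˣ) (τ : F ≃+* F) (h : NF hD θ 1 c τ) :
    ∃ d φ : MulAut ↥(D.group F), D.IsDiagonalAut d ∧ D.IsFieldAut φ ∧ θ = d * φ :=
  Cfsg.Agent.Lib.Helper89.Aut.nf_one_decomp hD θ c τ h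

/-- [STR-CONJD] -/
theorem conj_diag_nf [Finite F] (hD : D ∈ [chevG2, chevB2, chevD4, chevF4, chevE6, chevE7, chevE8])
    (a d : MulAut ↥(D.group F)) (hd : D.IsDiagonalAut d) (π : Equiv.Perm (Fin D.rank)) (c : Fin D.rank → Fˣ)
    (τ : F ≃+* F) (h : NF hD a π c τ) : D.IsDiagonalAut (a * d * a⁻¹) :=
  Cfsg.Agent.Lib.Helper39.Aut.conj_diag_nf hD a d hd π c τ h

/-- [STR-DCOMM] -/
theorem diag_comm (d d' : MulAut ↥(D.group F)) (hd : D.IsDiagonalAut d) (hd' : D.IsDiagonalAut d') :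
    d * d' = d' * d :=
  Cfsg.Agent.Lib.Helper89.Aut.diag_comm d d' hd hd'

/-- [STR-FCYC] -/
theorem exists_field_gen [Finite F] (hD : D ∈ [chevG2, chevB2, chevD4, chevF4, chevE6, chevE7, chevE8]) :
    ∃ φ₀ : MulAut ↥(D.group F), ∀ φ : MulAut ↥(D.group F), D.IsFieldAut φ → φ ∈ Subgroup.zpowers φ₀ :=
  Cfsg.Agent.Lib.Helper89.Aut.exists_field_gen hD

/-- [STR-RANGE] -/
theorem card_range_outPerm [Finite F] (hD : D ∈ [chevG2, chevB2, chevD4, chevF4, chevE6, chevE7, chevE8])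
    (P : MulAut ↥(D.group F) →* Equiv.Perm (Fin D.rank))
    (h1 : ∀ θ π, RootPerm hD θ π → P θ = π) (h2 : ∀ θ, D.IsDiagramSymmetry (P θ)) :
    Nat.card ↥P.range = 1 ∨ Nat.card ↥P.range = 2 ∨
      (Nat.card ↥P.range = 6 ∧ ∃ a b, P a * P b ≠ P b * P a) :=
  Cfsg.Agent.Lib.Helper9.Aut.card_range_outPerm hD P h1 h2

end Cfsg.Agent.Lib.Helper69.Aut
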