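/-
helper69: project STR, module [PI]: the homomorphism from the automorphism group of the finite Chevalley group to the
permutations of the nodes of the diagram (the permutation of the fundamental root subgroups induced by an
automorphism, up to inner automorphisms).
-/
import Cfsg.Agent.Lib.Helper69.Aut.StrMods
import Cfsg.Agent.Lib.Helper69.Aut.OutNorm
import Cfsg.Agent.Lib.Helper91.OutInn

set_option autoImplicit false

namespace Cfsg.Agent.Lib.Helper69.Aut

open Cfsg Cfsg.Lie Cfsg.Agent.Lib.Helper18 Cfsg.Agent.Lib.Helper91.ChevGen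

universe u

variable {F : Type u} [Field F] {D : ChevalleyDatum}

/-- A normalised inner automorphism has the trivial root permutation. -/
theorem rootPerm_conj_of_normalized (hD : D ∈ [chevG2, chevB2, chevD4, chevF4, chevE6, chevE7, chevE8])
    (z : ↥(D.group F)) (hz : IsNormalized (MulAut.conj z : MulAut ↥(D.group F))) :
    RootPerm hD (MulAut.conj z : MulAut ↥(D.group F)) 1 := by
  have hUG := posUnipotent_le_group (F := F) hD
  have hVG := negUnipotent_le_group (F := F) hD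
  have hzU : (D.posUnipotent F).map (MulAut.conj (z : GL D.Idx F)).toMonoidHom = D.posUnipotent F := by
    rw [← img_conjS z _ hUG]
    exact hz.1
  have hzV : (D.negUnipotent F).map (MulAut.conj (z : GL D.Idx F)).toMonoidHom = D.negUnipotent F := by
    rw [← img_conjS z _ hVG]
    exact hz.2
  have hmem : ∀ (K : Subgroup (GL D.Idx F)), K.map (MulAut.conj (z : GL D.Idx F)).toMonoidHom = K →
      ∀ u : GL D.Idx F, u ∈ K ↔ (z : GL D.Idx F) * u * (z : GL D.Idx F)⁻¹ ∈ K := by
    intro K hK u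
    constructor
    · intro hu
      rw [← hK]
      exact ⟨u, hu, rfl⟩
    · intro hu
      rw [← hK] at hu
      obtain ⟨u', hu', h⟩ := hu
      have h' : (z : GL D.Idx F) * u' * (z : GL D.Idx F)⁻¹ = (z : GL D.Idx F) * u * (z : GL D.Idx F)⁻¹ := h
      have : u' = u := mul_left_cancel (mul_right_cancel h')
      rw [← this]
      exact hu'
  have hzH : (z : GL D.Idx F) ∈ D.diagonalSubgroup F :=
    Cfsg.Agent.Lib.Helper91.OutInn.mem_diagonal_of_normalizes hD _ z.2 (hmem _ hzU) (hmem _ hzV)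
  obtain ⟨χ, -, hχ⟩ := Cfsg.Agent.Lib.Helper91.OutInn.exists_scalars_of_mem_diagonal hD _ hzH
  have hsl : ∀ i : Fin D.rank, D.simple i < D.nroots := fun i => simple_lt' hD i i.isLt
  have hnl : ∀ i : Fin D.rank, D.neg (D.simple i) < D.nroots := fun i => neg_lt' hD _ (hsl i)
  refine ⟨fun i t => χ (D.simple i) * t, fun i t => χ (D.neg (D.simple i)) * t, ?_, ?_⟩
  · intro i t
    apply Subtype.ext
    exact hχ _ (hsl i) t
  · intro i t
    apply Subtype.ext
    exact hχ _ (hnl i) t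

/-- The root permutation of a normalised representative does not depend on the representative. -/
theorem rootPerm_wd [Finite F] (hD : D ∈ [chevG2, chevB2, chevD4, chevF4, chevE6, chevE7, chevE8])
    (x y : ↥(D.group F)) (θ₁ θ₂ : MulAut ↥(D.group F)) (π₁ π₂ : Equiv.Perm (Fin D.rank))
    (h : MulAut.conj x * θ₁ = MulAut.conj y * θ₂) (h₁ : IsNormalized θ₁) (h₂ : IsNormalized θ₂)
    (hπ₁ : RootPerm hD θ₁ π₁) (hπ₂ : RootPerm hD θ₂ π₂) : π₁ = π₂ := by
  have e : θ₂ = MulAut.conj (y⁻¹ * x) * θ₁ := by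
    rw [map_mul, mul_assoc, h, ← mul_assoc, ← map_mul, inv_mul_cancel, map_one, one_mul]
  have hz : IsNormalized (MulAut.conj (y⁻¹ * x) : MulAut ↥(D.group F)) := by
    have : (MulAut.conj (y⁻¹ * x) : MulAut ↥(D.group F)) = θ₂ * θ₁⁻¹ := by
      rw [e, mul_inv_cancel_right]
    rw [this]
    exact isNormalized_mul h₂ (isNormalized_inv hD h₁)
  have h3 := rootPerm_mul hD (rootPerm_conj_of_normalized hD _ hz) hπ₁
  rw [← e, one_mul] at h3
  exact rootPerm_unique hD θ₂ π₁ π₂ h3 hπ₂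

/-- [STR-PI] -/
theorem exists_outPerm [Finite F] (hD : D ∈ [chevG2, chevB2, chevD4, chevF4, chevE6, chevE7, chevE8]) :
    ∃ P : MulAut ↥(D.group F) →* Equiv.Perm (Fin D.rank),
      (∀ θ π, RootPerm hD θ π → P θ = π) ∧ Cfsg.Inn ↥(D.group F) ≤ P.ker ∧
      (∀ θ, P θ = 1 → ∃ (x : ↥(D.group F)) (θ' : MulAut ↥(D.group F)), θ = MulAut.conj x * θ' ∧ RootPerm hD θ' 1) ∧
      (∀ θ, D.IsDiagramSymmetry (P θ)) := by
  classical
  have hex : ∀ θ : MulAut ↥(D.group F), ∃ π : Equiv.Perm (Fin D.rank), ∃ (x : ↥(D.group F))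
      (θ' : MulAut ↥(D.group F)), θ = MulAut.conj x * θ' ∧ IsNormalized θ' ∧ RootPerm hD θ' π := by
    intro θ
    obtain ⟨x, θ', h1, h2⟩ := exists_normalized hD θ
    obtain ⟨π, hπ⟩ := hasRootMap_of_normalized hD θ' h2
    refine ⟨π, x, θ', ?_, h2, hπ⟩
    ext y
    rw [h1 y]
    rfl
  choose Pf hPf using hex
  have hone : IsNormalized (1 : MulAut ↥(D.group F)) := isNormalized_one hD
  -- the value of `Pf` from any normalised representative
  have hval : ∀ (θ : MulAut ↥(D.group F)) (x : ↥(D.group F)) (θ' : MulAut ↥(D.group F))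
      (π : Equiv.Perm (Fin D.rank)), θ = MulAut.conj x * θ' → IsNormalized θ' → RootPerm hD θ' π → Pf θ = π := by
    intro θ x θ' π h1 h2 h3
    obtain ⟨y, θ'', e1, e2, e3⟩ := hPf θ
    exact rootPerm_wd hD y x θ'' θ' _ _ (e1.symm.trans h1) e2 h2 e3 h3
  have hmul : ∀ a b, Pf (a * b) = Pf a * Pf b := by
    intro a b
    obtain ⟨x, a', e1, e2, e3⟩ := hPf a
    obtain ⟨y, b', f1, f2, f3⟩ := hPf b
    apply hval (a * b) (x * a' y) (a' * b') _ _ (isNormalized_mul e2 f2) (rootPerm_mul hD e3 f3)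
    conv_lhs => rw [e1, f1]
    ext g
    simp only [MulAut.mul_apply, MulAut.conj_apply, map_mul, map_inv]
  let P : MulAut ↥(D.group F) →* Equiv.Perm (Fin D.rank) :=
    { toFun := Pf
      map_one' := hval 1 1 1 1 (by rw [map_one, one_mul]) hone (rootPerm_one hD)
      map_mul' := hmul }
  refine ⟨P, ?_, ?_, ?_, ?_⟩
  · intro θ π hπ
    exact hval θ 1 θ π (by rw [map_one, one_mul]) (isNormalized_of_hasRootMap hD θ ⟨π, hπ⟩) hπ
  · rintro _ ⟨x, rfl⟩
    rw [MonoidHom.mem_ker]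
    exact hval _ x 1 1 (by rw [mul_one]) hone (rootPerm_one hD)
  · intro θ hθ
    obtain ⟨x, θ', e1, -, e3⟩ := hPf θ
    have : Pf θ = 1 := hθ
    rw [this] at e3
    exact ⟨x, θ', e1, e3⟩
  · intro θ
    obtain ⟨x, θ', -, -, e3⟩ := hPf θ
    obtain ⟨π, c, τ, ⟨g, hg⟩, hnf⟩ := exists_nf hD θ' ⟨_, e3⟩
    have : π = Pf θ := rootPerm_unique hD θ' π _ (rootPerm_of_nf hD θ' π c τ hnf) e3
    show D.IsDiagramSymmetry (Pf θ)
    rw [← this]
    exact hg.1

/-- Conjugating a diagonal automorphism by any automorphism gives a diagonal automorphism, up to an inner one. -/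
theorem conj_diag [Finite F] (hD : D ∈ [chevG2, chevB2, chevD4, chevF4, chevE6, chevE7, chevE8])
    (a d : MulAut ↥(D.group F)) (hd : D.IsDiagonalAut d) :
    ∃ (x : ↥(D.group F)) (d' : MulAut ↥(D.group F)), D.IsDiagonalAut d' ∧ a * d * a⁻¹ = MulAut.conj x * d' := by
  obtain ⟨x, a', h1, h2⟩ := exists_normalized hD a
  obtain ⟨π, c, τ, -, hnf⟩ := exists_nf hD a' (hasRootMap_of_normalized hD a' h2)
  have ha : a = MulAut.conj x * a' := by
    ext y
    rw [h1 y]
    rfl
  have hd'' := conj_diag_nf hD a' d hd π c τ hnf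
  refine ⟨x * (a' * d * a'⁻¹) x⁻¹, a' * d * a'⁻¹, hd'', ?_⟩
  have key : ∀ (δ : MulAut ↥(D.group F)) (y : ↥(D.group F)), δ * MulAut.conj y = MulAut.conj (δ y) * δ := by
    intro δ y
    ext g
    simp only [MulAut.mul_apply, MulAut.conj_apply, map_mul, map_inv]
  rw [ha, mul_inv_rev, ← map_inv]
  have e : MulAut.conj x * a' * d * (a'⁻¹ * MulAut.conj x⁻¹)
      = MulAut.conj x * ((a' * d * a'⁻¹) * MulAut.conj x⁻¹) := by
    simp only [mul_assoc]
  rw [e, key, ← mul_assoc, ← map_mul]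

end Cfsg.Agent.Lib.Helper69.Aut
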