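/-
helper69: project STR, assembly: the structure of the outer automorphism group (S2159).
-/
import Cfsg.Agent.Lib.Helper69.Aut.StrPi

set_option autoImplicit false

namespace Cfsg.Agent.Lib.Helper69.Aut

open Cfsg Cfsg.Lie Cfsg.Agent.Lib.Helper18 Cfsg.Agent.Lib.Helper91.ChevGen
open scoped commutatorElement

universe u

variable {F : Type u} [Field F] {D : ChevalleyDatum}

theorem out_structure [Finite F] (hD : D ∈ [chevG2, chevB2, chevD4, chevF4, chevE6, chevE7, chevE8])
    (Dbar Fbar : Subgroup (Cfsg.Out ↥(D.group F)))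
    (hDbar : Dbar = (Subgroup.closure {φ : MulAut ↥(D.group F) | D.IsDiagonalAut φ}).map
      (QuotientGroup.mk' (Cfsg.Inn ↥(D.group F))))
    (hFbar : Fbar = (Subgroup.closure {φ : MulAut ↥(D.group F) | D.IsFieldAut φ}).map
      (QuotientGroup.mk' (Cfsg.Inn ↥(D.group F)))) :
    Dbar.Normal ∧ IsMulCommutative ↥Dbar ∧ IsCyclic ↥Fbar ∧ (Dbar ⊔ Fbar).Normal ∧
      ((Dbar ⊔ Fbar).index = 1 ∨ (Dbar ⊔ Fbar).index = 2 ∨
        ((Dbar ⊔ Fbar).index = 6 ∧ ¬ commutator (Cfsg.Out ↥(D.group F)) ≤ Dbar ⊔ Fbar)) := by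
  classical
  set q := QuotientGroup.mk' (Cfsg.Inn ↥(D.group F)) with hq
  have hqs : Function.Surjective q := QuotientGroup.mk'_surjective _
  have hqker : q.ker = Cfsg.Inn ↥(D.group F) := QuotientGroup.ker_mk' _
  set SD : Set (MulAut ↥(D.group F)) := {φ | D.IsDiagonalAut φ} with hSD
  set SF : Set (MulAut ↥(D.group F)) := {φ | D.IsFieldAut φ} with hSF
  obtain ⟨P, hP1, hPinn, hPker, hPsym⟩ := exists_outPerm (F := F) hD
  -- the generators lie in the kernel of `P`
  have hSDK : Subgroup.closure SD ≤ P.ker := by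
    rw [Subgroup.closure_le]
    intro d hd
    obtain ⟨c, hc⟩ := diag_nf hD d hd
    exact hP1 d 1 (rootPerm_of_nf hD d 1 c _ hc)
  have hSFK : Subgroup.closure SF ≤ P.ker := by
    rw [Subgroup.closure_le]
    intro φ hφ
    obtain ⟨τ, hτ⟩ := field_nf hD φ hφ
    exact hP1 φ 1 (rootPerm_of_nf hD φ 1 _ τ hτ)
  -- `q (ker P) = Dbar ⊔ Fbar`
  have hKQ : P.ker.map q = Dbar ⊔ Fbar := by
    apply le_antisymm
    · rintro _ ⟨θ, hθ, rfl⟩
      obtain ⟨x, θ', rfl, hθ'⟩ := hPker θ hθ
      obtain ⟨π, c, τ, -, hnf⟩ := exists_nf hD θ' ⟨1, hθ'⟩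
      have hπ : π = 1 := rootPerm_unique hD θ' π 1 (rootPerm_of_nf hD θ' π c τ hnf) hθ'
      subst hπ
      obtain ⟨d, φ, hd, hφ, rfl⟩ := nf_one_decomp hD θ' c τ hnf
      have h1 : q (MulAut.conj x) = 1 := by
        rw [← MonoidHom.mem_ker, hqker]
        exact ⟨x, rfl⟩
      rw [map_mul, map_mul, h1, one_mul]
      apply mul_mem
      · apply Subgroup.mem_sup_left
        rw [hDbar]
        exact Subgroup.mem_map_of_mem _ (Subgroup.subset_closure hd)
      · apply Subgroup.mem_sup_right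
        rw [hFbar]
        exact Subgroup.mem_map_of_mem _ (Subgroup.subset_closure hφ)
    · rw [hDbar, hFbar]
      exact sup_le (Subgroup.map_mono hSDK) (Subgroup.map_mono hSFK)
  refine ⟨?_, ?_, ?_, ?_, ?_⟩
  · -- `Dbar` is normal
    rw [hDbar]
    constructor
    rintro _ ⟨δ, hδ, rfl⟩ o
    obtain ⟨a, rfl⟩ := hqs o
    have key : Subgroup.closure SD ≤
        ((Subgroup.closure SD).map q).comap (q.comp (MulAut.conj a).toMonoidHom) := by
      rw [Subgroup.closure_le]
      intro d hd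
      obtain ⟨x, d', hd', he⟩ := conj_diag hD a d hd
      show q (a * d * a⁻¹) ∈ (Subgroup.closure SD).map q
      rw [he, map_mul]
      have h1 : q (MulAut.conj x) = 1 := by
        rw [← MonoidHom.mem_ker, hqker]
        exact ⟨x, rfl⟩
      rw [h1, one_mul]
      exact Subgroup.mem_map_of_mem _ (Subgroup.subset_closure hd')
    have := key hδ
    have e : q a * q δ * (q a)⁻¹ = q (a * δ * a⁻¹) := by
      rw [map_mul, map_mul, map_inv]
    rw [e]
    exact this
  · -- `Dbar` is commutative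
    rw [hDbar]
    have hcomm : ∀ a ∈ Subgroup.closure SD, ∀ b ∈ Subgroup.closure SD, a * b = b * a := by
      intro a ha b hb
      induction ha, hb using Subgroup.closure_induction₂ with
      | mem x y hx hy => exact diag_comm x y hx hy
      | one_left x _ => rw [one_mul, mul_one]
      | one_right x _ => rw [one_mul, mul_one]
      | mul_left x y z _ _ _ h1 h2 => rw [mul_assoc, h2, ← mul_assoc, h1, mul_assoc]
      | mul_right x y z _ _ _ h1 h2 => rw [← mul_assoc, h1, mul_assoc, h2, ← mul_assoc]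
      | inv_left x y _ _ h => exact (Commute.inv_left (show Commute x y from h)).eq
      | inv_right x y _ _ h => exact (Commute.inv_right (show Commute x y from h)).eq
    refine ⟨⟨?_⟩⟩
    rintro ⟨_, ⟨a, ha, rfl⟩⟩ ⟨_, ⟨b, hb, rfl⟩⟩
    apply Subtype.ext
    show q a * q b = q b * q a
    rw [← map_mul, ← map_mul, hcomm a ha b hb]
  · -- `Fbar` is cyclic
    rw [hFbar]
    obtain ⟨φ₀, hφ₀⟩ := exists_field_gen (F := F) hD
    have hle : Subgroup.closure SF ≤ Subgroup.zpowers φ₀ := by
      rw [Subgroup.closure_le]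
      exact fun φ hφ => hφ₀ φ hφ
    have hcyc : IsCyclic ↥(Subgroup.closure SF) := by
      have : IsCyclic ↥(Subgroup.zpowers φ₀) := inferInstance
      exact isCyclic_of_injective (Subgroup.inclusion hle) (Subgroup.inclusion_injective hle)
    let ψ : ↥(Subgroup.closure SF) →* ↥((Subgroup.closure SF).map q) := q.subgroupMap (Subgroup.closure SF)
    exact isCyclic_of_surjective ψ (q.subgroupMap_surjective (Subgroup.closure SF))
  · -- `Dbar ⊔ Fbar` is normal
    rw [← hKQ]
    exact Subgroup.Normal.map inferInstance q hqs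
  · -- the index
    have hidx : (Dbar ⊔ Fbar).index = Nat.card ↥P.range := by
      rw [← hKQ, Subgroup.index_map, hqker, sup_eq_left.mpr hPinn, MonoidHom.range_eq_top.mpr hqs,
        Subgroup.index_top, mul_one, Subgroup.index_ker]
    rw [hidx]
    rcases card_range_outPerm hD P hP1 hPsym with h | h | ⟨h, a, b, hab⟩
    · exact Or.inl h
    · exact Or.inr (Or.inl h)
    · refine Or.inr (Or.inr ⟨h, ?_⟩)
      intro hle
      apply hab
      have h1 : (⁅(q a : Cfsg.Out ↥(D.group F)), (q b : Cfsg.Out ↥(D.group F))⁆ : Cfsg.Out ↥(D.group F)) ∈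
          commutator (Cfsg.Out ↥(D.group F)) :=
        Subgroup.commutator_mem_commutator (Subgroup.mem_top _) (Subgroup.mem_top _)
      have h2 := hle h1
      rw [← hKQ] at h2
      obtain ⟨k, hk, hkq⟩ := h2
      have h3 : k⁻¹ * ⁅a, b⁆ ∈ q.ker := by
        rw [MonoidHom.mem_ker, map_mul, map_inv, hkq, map_commutatorElement, inv_mul_cancel]
      rw [hqker] at h3
      have h4 : ⁅a, b⁆ ∈ P.ker := by
        have := mul_mem hk (hPinn h3)
        rwa [mul_inv_cancel_left] at this
      rw [MonoidHom.mem_ker, map_commutatorElement, commutatorElement_eq_one_iff_mul_comm] at h4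
      exact h4

end Cfsg.Agent.Lib.Helper69.Aut
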